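import Cfsg.Agent.Lib.CosetEnum.Chain
import Cfsg.Agent.Lib.Schur.OmegaSeven.Words

set_option autoImplicit false
set_option linter.all false

/-! A coset table certificate (ESix3): generated data. -/

namespace CfsgLib.SchurO7

namespace ESix3

open CfsgLib.CosetEnum

/-- Relator words in local letters. -/
def lsl : List (List ℕ) := [[0, 0],
  [0, 1, 0, 1, 0, 1],
  [0, 2, 0, 2],
  [1, 0, 1, 0, 1, 0],
  [1, 1],
  [1, 2, 1, 2],
  [2, 0, 2, 0],
  [2, 1, 2, 1],
  [2, 2]]

/-- Subgroup letters. -/
def lsub : List (List ℕ) := [[0],
  [1]]

noncomputable def col0 : Tr :=
 (.leaf 0x100000)
noncomputable def col1 : Tr :=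
 (.leaf 0x100000)
noncomputable def col2 : Tr :=
 (.leaf 0x1)
noncomputable def table : List Tr := [col0, col1, col2]

noncomputable def facts : Tr :=
 (.leaf 0x10000100001000000100001010000000000000000000000020000100000)
noncomputable def words : Tr :=
 (.leaf 0x100000000000001220000000000000111000000000000010000000000000001220000000000000122000000000000012200000000000001220000000000012121000000000001121200000000000121210000000000011212000000000001121200000000000121210000000000011212000000000001212100000000000120200000000000010202000000000001202000000000000102020000000000010202000000000001202000000000000102020000000000012020000000000001121200000000000121210000000000011212000000000001212100000000000121210000000000011212000000000001212100000000000112120000000000000111000000000000011100000000000001110000000000000111000000000110101000000000010101010000000001101010000000000101010100000000011010100000000001010101000000000101010100000000011010100000000001010101000000000110101000000000010101010000000001101010000000000001020200000000000120200000000000010202000000000001202000000000000120200000000000010202000000000001202000000000000102020000000001010101000000000110101000000000010101010000000001101010000000000101010100000000011010100000000001101010000000000101010100000000011010100000000001010101000000000110101000000000010101010000000000000100000000000000010000000000000001000000000000000100)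
noncomputable def subs : Tr :=
 (.leaf 0x11000000000000001100000000000000100000000000000010)
noncomputable def lives : Tr :=
 (.leaf 0x100000)
noncomputable def entryFact : Tr :=
 (.leaf 0x200000a000008000001000006000004)
noncomputable def items0 : List ℕ := [
nat_lit 0x0,
nat_lit 0x1fffffe00001,
nat_lit 0x1fffffe00005,
nat_lit 0x200000800000400022,
nat_lit 0x200000c00000400052]
theorem facts_ok0 : checkFacts facts 18364758544493064720 words 64 subs 2 items0 0 = true := by decide +kernel
theorem facts_ok : ∀ j < 5, ∃ item, checkFact facts 18364758544493064720 words 64 subs 2 j item = true := by
  intro j hj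
  rcases Nat.lt_or_ge j 5 with h | h
  · exact checkFacts_spec _ _ _ _ _ _ items0 0 facts_ok0 j (by omega) (lt_of_lt_of_eq h (by decide +kernel))
  omega
theorem rows_0 : checkRows facts 18364758544493064720 lives entryFact table 2 3 5 2 0 = true := by decide +kernel
theorem rows_ok : ∀ k < 2, checkRow facts 18364758544493064720 lives entryFact 2 3 5 k table 0 = true := by
  intro k hk
  rcases Nat.lt_or_ge k 2 with h | h
  · exact checkRows_spec _ _ _ _ _ _ _ _ _ _ rows_0 k (by omega) (by omega)
  omega
theorem words_fit : words.fits 64 128 = true := by decide +kernel
theorem words_eq : listEq (words.entries 64 128) (allCodes 18364758544493064720 3 lsl) = true := by decide +kernel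
theorem subs_fit : subs.fits 64 128 = true := by decide +kernel
theorem subs_eq : listEq (subs.entries 64 128) (subCodes 18364758544493064720 lsub) = true := by decide +kernel
theorem lives_zero : Nat.beq (lives.get 20 0) 0 = true := by decide +kernel

theorem covers {G : Type*} [Group G] {g : ℕ → G} (h15 : g 15 = 1) (hinv : ∀ x < 16, g (linv 18364758544493064720 x) = (g x)⁻¹)
    (hls : ∀ l ∈ lsC, (∀ x ∈ l, x < 16) ∧ (l.map g).prod = 1) :
    CoversCosets (Level g [4, 5, 7]) (Level g [4, 5]) 2 :=
  covers_level h15 hinv lsC hls [4, 5, 7] [4, 5] 18364758544493064720 (ip := 18364758544493064720) (by decide +kernel) lsl lsub (by decide +kernel) (by decide +kernel)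
    facts ESix3.words subs lives entryFact ESix3.table 64 128 2 5 2 3 rfl rfl (by omega)
    words_fit words_eq subs_fit subs_eq facts_ok lives_zero rows_ok

end ESix3

end CfsgLib.SchurO7
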