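import Cfsg.Agent.Lib.Schur.OmegaSeven.Gens
import Cfsg.Agent.Lib.Schur.OmegaSeven.Spider
import Cfsg.Agent.Lib.Schur.OmegaSeven.SpiderTwo
import Cfsg.Agent.Lib.Schur.OmegaSeven.Line
import Cfsg.Agent.Lib.Schur.OmegaSeven.ESix0
import Cfsg.Agent.Lib.Schur.OmegaSeven.ESix1
import Cfsg.Agent.Lib.Schur.OmegaSeven.ESix2
import Cfsg.Agent.Lib.Schur.OmegaSeven.ESix3
import Cfsg.Agent.Lib.Schur.OmegaSeven.ESix4
import Cfsg.Agent.Lib.Schur.OmegaSeven.ESix5

/-!
A group generated by eight involutions that satisfy the relators of `Ω₇(3)` with the spider word only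
central has at most three times as many elements, and the spider word has order one or three.
-/

set_option autoImplicit false

namespace CfsgLib.SchurO7

open CfsgLib.CosetEnum
open CfsgLib.CosetEnum.O7 (Om mW)

local notation "IP" => 18364758544493064720
local notation "IPV" => 18364757513700913680

theorem linv_ip : ∀ x < 16, linv IP x = x := by decide +kernel

theorem linv_ipv : ∀ x < 16, linv IPV x = if x = 9 then 10 else if x = 10 then 9 else x := by decide +kernel

section whole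

variable {X : Type*} [Group X] {g : ℕ → X}

/-- The level bounds for the whole group. -/
theorem card_all (h15 : g 15 = 1) (hinv : ∀ x < 16, g (linv IP x) = (g x)⁻¹)
    (hls : ∀ l ∈ lsG, (∀ x ∈ l, x < 16) ∧ (l.map g).prod = 1) :
    Finite (Level g sel) ∧ Nat.card (Level g sel) ≤ 4585351680 := by
  have c0 : CoversCosets (Level g [1, 2, 3, 4, 5, 6, 7, 8]) (Level g [1, 2, 3, 4, 5, 6, 7]) 3159 :=
    covers_level h15 hinv lsG hls [1, 2, 3, 4, 5, 6, 7, 8] [1, 2, 3, 4, 5, 6, 7] IP (ip := IP) (by decide +kernel)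
      Fi22.U0.lsl Fi22.U0.lsub (by decide +kernel) (by decide +kernel) Fi22.U0.facts Fi22.U0.words Fi22.U0.subs
      Fi22.U0.lives Fi22.U0.entryFact Fi22.U0.table 384 21 9099 32378 3159 8 rfl rfl (by omega)
      Fi22.U0.words_fit Fi22.U0.words_eq Fi22.U0.subs_fit Fi22.U0.subs_eq Fi22.U0.facts_ok Fi22.U0.lives_zero
      Fi22.U0.rows_ok
  have c1 : CoversCosets (Level g [1, 2, 3, 4, 5, 6, 7]) (Level g [2, 3, 4, 5, 6, 7]) 63 :=
    covers_level h15 hinv lsG hls [1, 2, 3, 4, 5, 6, 7] [2, 3, 4, 5, 6, 7] IP (ip := IP) (by decide +kernel)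
      Fi22.U1.lsl Fi22.U1.lsub (by decide +kernel) (by decide +kernel) Fi22.U1.facts Fi22.U1.words Fi22.U1.subs
      Fi22.U1.lives Fi22.U1.entryFact Fi22.U1.table 256 32 63 329 63 7 rfl rfl (by omega)
      Fi22.U1.words_fit Fi22.U1.words_eq Fi22.U1.subs_fit Fi22.U1.subs_eq Fi22.U1.facts_ok Fi22.U1.lives_zero
      Fi22.U1.rows_ok
  have c2 : CoversCosets (Level g [2, 3, 4, 5, 6, 7]) (Level g [3, 4, 5, 6, 7]) 32 :=
    covers_level h15 hinv lsG hls [2, 3, 4, 5, 6, 7] [3, 4, 5, 6, 7] IP (ip := IP) (by decide +kernel)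
      Fi22.U2.lsl Fi22.U2.lsub (by decide +kernel) (by decide +kernel) Fi22.U2.facts Fi22.U2.words Fi22.U2.subs
      Fi22.U2.lives Fi22.U2.entryFact Fi22.U2.table 64 128 32 144 32 6 rfl rfl (by omega)
      Fi22.U2.words_fit Fi22.U2.words_eq Fi22.U2.subs_fit Fi22.U2.subs_eq Fi22.U2.facts_ok Fi22.U2.lives_zero
      Fi22.U2.rows_ok
  have c3 : CoversCosets (Level g [3, 4, 5, 6, 7]) (Level g [4, 5, 6, 7]) 15 :=
    covers_level h15 hinv lsG hls [3, 4, 5, 6, 7] [4, 5, 6, 7] IP (ip := IP) (by decide +kernel)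
      Fi22.U3.lsl Fi22.U3.lsub (by decide +kernel) (by decide +kernel) Fi22.U3.facts Fi22.U3.words Fi22.U3.subs
      Fi22.U3.lives Fi22.U3.entryFact Fi22.U3.table 64 128 15 55 15 5 rfl rfl (by omega)
      Fi22.U3.words_fit Fi22.U3.words_eq Fi22.U3.subs_fit Fi22.U3.subs_eq Fi22.U3.facts_ok Fi22.U3.lives_zero
      Fi22.U3.rows_ok
  have c4 : CoversCosets (Level g [4, 5, 6, 7]) (Level g [4, 5, 6]) 2 :=
    covers_level h15 hinv lsG hls [4, 5, 6, 7] [4, 5, 6] IP (ip := IP) (by decide +kernel)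
      Fi22.U4.lsl Fi22.U4.lsub (by decide +kernel) (by decide +kernel) Fi22.U4.facts Fi22.U4.words Fi22.U4.subs
      Fi22.U4.lives Fi22.U4.entryFact Fi22.U4.table 64 128 2 7 2 4 rfl rfl (by omega)
      Fi22.U4.words_fit Fi22.U4.words_eq Fi22.U4.subs_fit Fi22.U4.subs_eq Fi22.U4.facts_ok Fi22.U4.lives_zero
      Fi22.U4.rows_ok
  have c5 : CoversCosets (Level g [4, 5, 6]) (Level g [4, 5]) 4 :=
    covers_level h15 hinv lsG hls [4, 5, 6] [4, 5] IP (ip := IP) (by decide +kernel)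
      Fi22.U5.lsl Fi22.U5.lsub (by decide +kernel) (by decide +kernel) Fi22.U5.facts Fi22.U5.words Fi22.U5.subs
      Fi22.U5.lives Fi22.U5.entryFact Fi22.U5.table 64 128 4 9 4 3 rfl rfl (by omega)
      Fi22.U5.words_fit Fi22.U5.words_eq Fi22.U5.subs_fit Fi22.U5.subs_eq Fi22.U5.facts_ok Fi22.U5.lives_zero
      Fi22.U5.rows_ok
  have c6 : CoversCosets (Level g [4, 5]) (Level g [4]) 3 :=
    covers_level h15 hinv lsG hls [4, 5] [4] IP (ip := IP) (by decide +kernel)
      Fi22.U6.lsl Fi22.U6.lsub (by decide +kernel) (by decide +kernel) Fi22.U6.facts Fi22.U6.words Fi22.U6.subs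
      Fi22.U6.lives Fi22.U6.entryFact Fi22.U6.table 64 128 3 4 3 2 rfl rfl (by omega)
      Fi22.U6.words_fit Fi22.U6.words_eq Fi22.U6.subs_fit Fi22.U6.subs_eq Fi22.U6.facts_ok Fi22.U6.lives_zero
      Fi22.U6.rows_ok
  have c7 : CoversCosets (Level g [4]) (Level g []) 2 :=
    covers_level h15 hinv lsG hls [4] [] IP (ip := IP) (by decide +kernel)
      Fi22.U7.lsl Fi22.U7.lsub (by decide +kernel) (by decide +kernel) Fi22.U7.facts Fi22.U7.words Fi22.U7.subs
      Fi22.U7.lives Fi22.U7.entryFact Fi22.U7.table 64 128 2 1 2 1 rfl rfl (by omega)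
      Fi22.U7.words_fit Fi22.U7.words_eq Fi22.U7.subs_fit Fi22.U7.subs_eq Fi22.U7.facts_ok Fi22.U7.lives_zero
      Fi22.U7.rows_ok
  exact card_le_step c0 (card_le_step (m := 1451520) c1 (card_le_step (m := 23040) c2 (card_le_step (m := 720) c3
    (card_le_step (m := 48) c4 (card_le_step (m := 24) c5 (card_le_step (m := 6) c6 (card_le_step (m := 2) c7
      ⟨(card_level_nil g).1, (card_level_nil g).2.le⟩ (by norm_num)) (by norm_num)) (by norm_num)) (by norm_num))
    (by norm_num)) (by norm_num)) (by norm_num)) (by norm_num)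

/-- The level bound for the part of type `E₆`. -/
theorem card_six (h15 : g 15 = 1) (hinv : ∀ x < 16, g (linv IP x) = (g x)⁻¹)
    (hls : ∀ l ∈ lsC, (∀ x ∈ l, x < 16) ∧ (l.map g).prod = 1) :
    Finite (Level g [1, 2, 3, 4, 5, 7]) ∧ Nat.card (Level g [1, 2, 3, 4, 5, 7]) ≤ 51840 :=
  card_le_step (ESix0.covers h15 hinv hls) (card_le_step (m := 1920) (ESix1.covers h15 hinv hls)
    (card_le_step (m := 120) (ESix2.covers h15 hinv hls) (card_le_step (m := 12) (ESix3.covers h15 hinv hls)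
      (card_le_step (m := 6) (ESix4.covers h15 hinv hls) (card_le_step (m := 2) (ESix5.covers h15 hinv hls)
        ⟨(card_level_nil g).1, (card_level_nil g).2.le⟩ (by norm_num)) (by norm_num)) (by norm_num))
      (by norm_num)) (by norm_num)) (by norm_num)

end whole

theorem lsG_cases : ∀ l ∈ lsG, l ∈ lsC ∨ l = spider := by decide +kernel

theorem lsC_lt : ∀ l ∈ lsC, ∀ x ∈ l, x ∈ sel ∧ x < 16 := by decide +kernel

theorem lsV_cases : ∀ l ∈ lsV, l ∈ lsC ∨ l = spider ++ [10] ∨ l = [9, 10] ∨ l = [10, 9] ∨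
    ∃ i ∈ sel, l = [i, 9, i, 10] := by decide +kernel

/-- The letters of the covering group with the two central letters. -/
def ext {X : Type*} [Group X] (y : ℕ → X) (x : ℕ) : X :=
  if x = 9 then (spider.map y).prod else if x = 10 then ((spider.map y).prod)⁻¹ else y x

theorem line_lower : 12597120 ≤ Nat.card (Level mW [1, 2, 3, 4, 5, 7, 8]) := by
  haveI := finite_om
  have h15 : mW 15 = 1 := mW_out (by decide)
  have hinv : ∀ x < 16, mW (linv IP x) = (mW x)⁻¹ := fun x hx => by rw [linv_ip x hx, mW_inv]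
  have hc := Line.covers h15 hinv fun l hl =>
    ⟨fun x hx => ((by decide +kernel : ∀ x ∈ sel, x < 16) x ((lsG_sub l hl).2 x hx)), mW_word hl⟩
  obtain ⟨-, hle⟩ := hc.card_le
  rw [show ([1, 2, 3, 4, 5, 6, 7, 8] : List ℕ) = sel from rfl, level_top, Subgroup.card_top, card_om] at hle
  omega

section cover

variable {X : Type*} [Group X] {y : ℕ → X}

theorem card_le_of_rels (hout : ∀ x, x ∉ sel → y x = 1) (hsq : ∀ x, y x * y x = 1)
    (hC : ∀ l ∈ lsC, (l.map y).prod = 1) (hv : ∀ b, Commute (spider.map y).prod b)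
    (hgen : Level y sel = ⊤) (σ : X →* Om) (hσ : ∀ x, σ (y x) = mW x) :
    Finite X ∧ (orderOf (spider.map y).prod = 1 ∨ orderOf (spider.map y).prod = 3) ∧
      Nat.card X ≤ orderOf (spider.map y).prod * 4585351680 := by
  haveI := finite_om
  set V := (spider.map y).prod with hV
  set g := ext y with hg
  have hgy : ∀ x, x ≠ 9 → x ≠ 10 → g x = y x := fun x h1 h2 => by simp only [hg, ext, if_neg h1, if_neg h2]
  have hg9 : g 9 = V := rfl
  have hg10 : g 10 = V⁻¹ := rfl
  have hsel : ∀ x ∈ sel, g x = y x ∧ x < 16 := fun x hx => by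
    obtain ⟨h1, h2, h3⟩ := (by decide : ∀ x ∈ sel, x ≠ 9 ∧ x ≠ 10 ∧ x < 16) x hx
    exact ⟨hgy x h1 h2, h3⟩
  have hmap : ∀ l : List ℕ, (∀ x ∈ l, x ∈ sel) → l.map g = l.map y := fun l hl =>
    List.map_congr_left fun x hx => (hsel x (hl x hx)).1
  have h15 : g 15 = 1 := (hgy 15 (by omega) (by omega)).trans (hout 15 (by decide))
  have yinv : ∀ x, (y x)⁻¹ = y x := fun x => inv_eq_of_mul_eq_one_right (hsq x)
  have hinvV : ∀ x < 16, g (linv IPV x) = (g x)⁻¹ := fun x hx => by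
    rw [linv_ipv x hx]
    split_ifs with h9 h10
    · rw [h9, hg9, hg10]
    · rw [h10, hg9, hg10, inv_inv]
    · rw [hgy x h9 h10, yinv]
  have hinv : ∀ x < 16, (fun z => y z) (linv IP x) = ((fun z => y z) x)⁻¹ := fun x hx => by
    simp only [linv_ip x hx, yinv]
  have wC : ∀ l ∈ lsC, (∀ x ∈ l, x < 16) ∧ (l.map g).prod = 1 := fun l hl =>
    ⟨fun x hx => (lsC_lt l hl x hx).2, by rw [hmap l fun x hx => (lsC_lt l hl x hx).1]; exact hC l hl⟩
  have wV : ∀ l ∈ lsV, (∀ x ∈ l, x < 16) ∧ (l.map g).prod = 1 := by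
    intro l hl
    refine ⟨(by decide +kernel : ∀ l ∈ lsV, ∀ x ∈ l, x < 16) l hl, ?_⟩
    rcases lsV_cases l hl with h | rfl | rfl | rfl | ⟨i, hi, rfl⟩
    · exact (wC l h).2
    · rw [List.map_append, List.prod_append, hmap spider (lsG_sub _ spider_sub).2]
      simp [hg10, hV]
    · simp [hg9, hg10]
    · simp [hg9, hg10]
    · simp only [List.map_cons, List.map_nil, List.prod_cons, List.prod_nil, mul_one, hg9, hg10, (hsel i hi).1]
      calc y i * (V * (y i * V⁻¹)) = y i * (V * y i) * V⁻¹ := by group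
        _ = y i * y i * (V * V⁻¹) := by rw [(hv (y i)).eq]; group
        _ = 1 := by rw [hsq, mul_inv_cancel, mul_one]
  have hsix : Finite (Level g [1, 2, 3, 4, 5, 7]) ∧ Nat.card (Level g [1, 2, 3, 4, 5, 7]) ≤ 51840 := by
    have he : Level g [1, 2, 3, 4, 5, 7] = Level y [1, 2, 3, 4, 5, 7] := by
      have : ∀ x ∈ [1, 2, 3, 4, 5, 7], g x = y x := fun x hx =>
        (hsel x ((by decide : ∀ x ∈ [1, 2, 3, 4, 5, 7], x ∈ sel) x hx)).1
      rw [Level, Level]
      congr 1
      ext z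
      constructor
      · rintro ⟨x, hx, rfl⟩; exact ⟨x, hx, this x hx⟩
      · rintro ⟨x, hx, rfl⟩; exact ⟨x, hx, (this x hx).symm⟩
    rw [he]
    exact card_six (g := y) (hout 15 (by decide)) hinv fun l hl =>
      ⟨fun x hx => (lsC_lt l hl x hx).2, hC l hl⟩
  set K := Level g [1, 2, 3, 4, 5, 7, 8, 9, 10]
  have hVK : V ∈ K := mem_level g (sel := [1, 2, 3, 4, 5, 7, 8, 9, 10]) (x := 9) (by decide)
  have hσV : σ V = 1 := by
    rw [hV, map_list_prod, List.map_map, show σ ∘ y = mW from funext hσ]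
    exact mW_word spider_sub
  set ρ := σ.comp K.subtype
  have hrange : 12597120 ≤ Nat.card ρ.range := by
    refine line_lower.trans (Nat.card_le_card_of_injective (Subgroup.inclusion ?_) (Subgroup.inclusion_injective _))
    rw [Level, Subgroup.closure_le]
    rintro _ ⟨x, hx, rfl⟩
    have h : g x ∈ K := mem_level g
      ((by decide : ∀ x ∈ [1, 2, 3, 4, 5, 7, 8], x ∈ [1, 2, 3, 4, 5, 7, 8, 9, 10]) x hx)
    refine ⟨⟨g x, h⟩, ?_⟩
    show σ (g x) = _
    rw [(hsel x ((by decide : ∀ x ∈ [1, 2, 3, 4, 5, 7, 8], x ∈ sel) x hx)).1, hσ]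
  have hK : ∀ N, CoversCosets K (Level g [1, 2, 3, 4, 5, 7]) N →
      Finite K ∧ Nat.card ρ.ker * 12597120 ≤ N * 51840 := fun N hc => by
    haveI := hsix.1
    obtain ⟨hf, hle⟩ := hc.card_le
    refine ⟨hf, ?_⟩
    have h1 := ρ.ker.card_mul_index
    rw [Subgroup.index_ker] at h1
    calc Nat.card ρ.ker * 12597120 ≤ Nat.card ρ.ker * Nat.card ρ.range := Nat.mul_le_mul_left _ hrange
      _ = Nat.card K := h1
      _ ≤ N * Nat.card (Level g [1, 2, 3, 4, 5, 7]) := hle
      _ ≤ N * 51840 := Nat.mul_le_mul_left _ hsix.2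
  obtain ⟨hfinK, hker⟩ := hK 729 (Spider.covers h15 hinvV wV)
  haveI := hfinK
  have hVk : (⟨V, hVK⟩ : K) ∈ ρ.ker := hσV
  have hdvd : orderOf V ≤ Nat.card ρ.ker := by
    have h1 : orderOf (⟨⟨V, hVK⟩, hVk⟩ : ρ.ker) = orderOf V := by
      rw [← Subgroup.orderOf_coe, ← Subgroup.orderOf_coe]
    rw [← h1]
    exact orderOf_le_card
  have hfo : IsOfFinOrder V := K.subtype.isOfFinOrder (isOfFinOrder_of_finite (⟨V, hVK⟩ : K))
  have hpos : 0 < orderOf V := hfo.orderOf_pos
  have h3 : orderOf V ≤ 3 := by omega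
  have hord : orderOf V = 1 ∨ orderOf V = 3 := by
    by_contra hne
    have h2 : orderOf V = 2 := by omega
    have w2 : ∀ l ∈ lsV2, (∀ x ∈ l, x < 16) ∧ (l.map g).prod = 1 := fun l hl => by
      rcases List.mem_append.mp hl with h | h
      · exact wV l h
      · rw [List.mem_singleton] at h
        subst h
        refine ⟨by decide, ?_⟩
        simp only [List.map_cons, List.map_nil, List.prod_cons, List.prod_nil, mul_one, hg9, ← pow_two]
        rw [← h2]; exact pow_orderOf_eq_one V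
    obtain ⟨-, hk2⟩ := hK 243 (SpiderTwo.covers h15 hinvV w2)
    omega
  set N := Subgroup.zpowers V
  haveI : N.Normal := ⟨fun n hn c => by
    obtain ⟨k, rfl⟩ := hn
    rw [((hv c).zpow_left k).eq.symm, mul_inv_cancel_right]
    exact ⟨k, rfl⟩⟩
  set π := QuotientGroup.mk' N
  have wG : ∀ l ∈ lsG, (∀ x ∈ l, x < 16) ∧ (l.map fun x => π (y x)).prod = 1 := fun l hl => by
    refine ⟨fun x hx => (hsel x ((lsG_sub l hl).2 x hx)).2, ?_⟩
    rw [show (fun x => π (y x)) = π ∘ y from rfl, ← List.map_map, ← map_list_prod]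
    rcases lsG_cases l hl with h | h
    · rw [hC l h, map_one]
    · rw [h, ← hV]
      exact (QuotientGroup.eq_one_iff V).mpr (Subgroup.mem_zpowers V)
  obtain ⟨hfq, hq⟩ := card_all (g := fun x => π (y x)) (by show π (y 15) = 1; rw [hout 15 (by decide), map_one])
    (fun x hx => by show π (y (linv IP x)) = (π (y x))⁻¹; rw [linv_ip x hx, ← map_inv, yinv]) wG
  have htop : Level (fun x => π (y x)) sel = ⊤ := by
    have h1 : (Level y sel).map π = ⊤ := by
      rw [hgen, ← MonoidHom.range_eq_map]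
      exact MonoidHom.range_eq_top.mpr (QuotientGroup.mk'_surjective N)
    refine eq_top_iff.mpr (h1 ▸ ?_)
    rw [Level, MonoidHom.map_closure, Subgroup.closure_le]
    rintro _ ⟨_, ⟨x, hx, rfl⟩, rfl⟩
    exact mem_level (fun x => π (y x)) hx
  rw [htop] at hfq hq
  rw [Subgroup.card_top] at hq
  haveI : Finite (X ⧸ N) := Finite.of_equiv _ Subgroup.topEquiv.toEquiv
  haveI : Finite N := hfo.finite_zpowers.to_subtype
  have hfX : Finite X := Finite.of_equiv _ N.groupEquivQuotientProdSubgroup.symm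
  refine ⟨hfX, hord, ?_⟩
  rw [Subgroup.card_eq_card_quotient_mul_card_subgroup N, Nat.card_zpowers, mul_comm]
  exact Nat.mul_le_mul_left _ hq

end cover

end CfsgLib.SchurO7
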