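import Mathlib.Data.Nat.Notation

/-!
The seven Clifford matrices of the form `x₀² + x₁x₄ + x₂x₅ + x₃x₆` over the field of three elements on
the exterior algebra of a three-dimensional space, a fixed vector of each of the eight generating
matrices, and the products giving the matrix units: generated data.
-/

set_option autoImplicit false

namespace CfsgLib.SchurO7

/-- The Clifford matrices, two bits to an entry. -/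
def gamCodes : List ℕ := [170141507980260839642450447422043193345, 21267647932868138976286761632837730304, 10633844248688930634903132233602695168, 332309534257100849688415865583697920, 1298074214652596373064377541066756, 39614156814995894711103782928, 4611721202933694720]

/-- Fixed vectors of the generators. -/
def rootVecs : List (List ℕ) := [[0, 1, 2, 2, 1, 1, 1],
  [0, 1, 0, 0, 2, 2, 0],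
  [0, 1, 1, 0, 0, 2, 0],
  [0, 1, 1, 2, 2, 0, 0],
  [1, 2, 1, 1, 0, 1, 0],
  [0, 0, 1, 2, 1, 0, 1],
  [0, 1, 1, 0, 2, 0, 1],
  [0, 1, 0, 2, 1, 2, 2]]

/-- The matrix units as signed products. -/
def unitWords : List (ℕ × List ℕ) := [(1, [4, 1, 5, 2, 6, 3]),
  (1, [4, 1, 5, 2, 6, 3, 4]),
  (1, [4, 1, 5, 2, 6, 3, 5]),
  (1, [4, 1, 5, 2, 6, 3, 5, 4]),
  (1, [4, 1, 5, 2, 6, 3, 6]),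
  (1, [4, 1, 5, 2, 6, 3, 6, 4]),
  (1, [4, 1, 5, 2, 6, 3, 6, 5]),
  (1, [4, 1, 5, 2, 6, 3, 6, 5, 4]),
  (1, [1, 4, 1, 5, 2, 6, 3]),
  (1, [1, 4, 1, 5, 2, 6, 3, 4]),
  (1, [1, 4, 1, 5, 2, 6, 3, 5]),
  (1, [1, 4, 1, 5, 2, 6, 3, 5, 4]),
  (1, [1, 4, 1, 5, 2, 6, 3, 6]),
  (1, [1, 4, 1, 5, 2, 6, 3, 6, 4]),
  (1, [1, 4, 1, 5, 2, 6, 3, 6, 5]),
  (1, [1, 4, 1, 5, 2, 6, 3, 6, 5, 4]),
  (1, [2, 4, 1, 5, 2, 6, 3]),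
  (1, [2, 4, 1, 5, 2, 6, 3, 4]),
  (1, [2, 4, 1, 5, 2, 6, 3, 5]),
  (1, [2, 4, 1, 5, 2, 6, 3, 5, 4]),
  (1, [2, 4, 1, 5, 2, 6, 3, 6]),
  (1, [2, 4, 1, 5, 2, 6, 3, 6, 4]),
  (1, [2, 4, 1, 5, 2, 6, 3, 6, 5]),
  (1, [2, 4, 1, 5, 2, 6, 3, 6, 5, 4]),
  (1, [1, 2, 4, 1, 5, 2, 6, 3]),
  (1, [1, 2, 4, 1, 5, 2, 6, 3, 4]),
  (1, [1, 2, 4, 1, 5, 2, 6, 3, 5]),
  (1, [1, 2, 4, 1, 5, 2, 6, 3, 5, 4]),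
  (1, [1, 2, 4, 1, 5, 2, 6, 3, 6]),
  (1, [1, 2, 4, 1, 5, 2, 6, 3, 6, 4]),
  (1, [1, 2, 4, 1, 5, 2, 6, 3, 6, 5]),
  (1, [1, 2, 4, 1, 5, 2, 6, 3, 6, 5, 4]),
  (1, [3, 4, 1, 5, 2, 6, 3]),
  (1, [3, 4, 1, 5, 2, 6, 3, 4]),
  (1, [3, 4, 1, 5, 2, 6, 3, 5]),
  (1, [3, 4, 1, 5, 2, 6, 3, 5, 4]),
  (1, [3, 4, 1, 5, 2, 6, 3, 6]),
  (1, [3, 4, 1, 5, 2, 6, 3, 6, 4]),
  (1, [3, 4, 1, 5, 2, 6, 3, 6, 5]),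
  (1, [3, 4, 1, 5, 2, 6, 3, 6, 5, 4]),
  (1, [1, 3, 4, 1, 5, 2, 6, 3]),
  (1, [1, 3, 4, 1, 5, 2, 6, 3, 4]),
  (1, [1, 3, 4, 1, 5, 2, 6, 3, 5]),
  (1, [1, 3, 4, 1, 5, 2, 6, 3, 5, 4]),
  (1, [1, 3, 4, 1, 5, 2, 6, 3, 6]),
  (1, [1, 3, 4, 1, 5, 2, 6, 3, 6, 4]),
  (1, [1, 3, 4, 1, 5, 2, 6, 3, 6, 5]),
  (1, [1, 3, 4, 1, 5, 2, 6, 3, 6, 5, 4]),
  (1, [2, 3, 4, 1, 5, 2, 6, 3]),
  (1, [2, 3, 4, 1, 5, 2, 6, 3, 4]),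
  (1, [2, 3, 4, 1, 5, 2, 6, 3, 5]),
  (1, [2, 3, 4, 1, 5, 2, 6, 3, 5, 4]),
  (1, [2, 3, 4, 1, 5, 2, 6, 3, 6]),
  (1, [2, 3, 4, 1, 5, 2, 6, 3, 6, 4]),
  (1, [2, 3, 4, 1, 5, 2, 6, 3, 6, 5]),
  (1, [2, 3, 4, 1, 5, 2, 6, 3, 6, 5, 4]),
  (1, [1, 2, 3, 4, 1, 5, 2, 6, 3]),
  (1, [1, 2, 3, 4, 1, 5, 2, 6, 3, 4]),
  (1, [1, 2, 3, 4, 1, 5, 2, 6, 3, 5]),
  (1, [1, 2, 3, 4, 1, 5, 2, 6, 3, 5, 4]),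
  (1, [1, 2, 3, 4, 1, 5, 2, 6, 3, 6]),
  (1, [1, 2, 3, 4, 1, 5, 2, 6, 3, 6, 4]),
  (1, [1, 2, 3, 4, 1, 5, 2, 6, 3, 6, 5]),
  (1, [1, 2, 3, 4, 1, 5, 2, 6, 3, 6, 5, 4])]

end CfsgLib.SchurO7
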