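import Cfsg.Agent.Lib.Schur.OmegaSeven.Gens
import Cfsg.Agent.Lib.Schur.OmegaSeven.CliffordData
import Cfsg.Prelude.Def_KGroupFacts

/-!
A stem extension of `Ω₇(3)` with kernel of order two: the eight generators lift to the Clifford matrices
of vectors fixed by them.
-/

set_option autoImplicit false
set_option maxRecDepth 20000

namespace CfsgLib.SchurO7.Double

open CfsgLib.CosetEnum
open CfsgLib.CosetEnum.O7 (F3 Idx e7 Om mW mO mat oGen O)
open scoped Matrix commutatorElement

/-- The spinor matrices. -/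
abbrev M8 : Type := Matrix (Fin 8) (Fin 8) F3

/-- A coded matrix. -/
def dec (c : ℕ) : M8 := fun a b => ((c >>> (2 * (8 * a.val + b.val)) &&& 3 : ℕ) : F3)

/-- The Clifford matrix of a basis vector. -/
def gam (k : Fin 7) : M8 := dec (gamCodes.getD k.val 0)

/-- The Clifford matrix of a vector. -/
def clif (v : Idx → F3) : M8 := ∑ k : Fin 7, v (e7.symm k) • gam k

/-- A fixed vector of a generator. -/
def root (j : Fin 8) : Idx → F3 := fun a => (((rootVecs.getD j.val []).getD (e7 a).val 0 : ℕ) : F3)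

theorem root_sq : ∀ j : Fin 8, clif (root j) * clif (root j) = -1 := by decide +kernel

theorem root_gam : ∀ (j : Fin 8) (k : Fin 7), clif (root j) * gam k =
    (∑ m : Fin 7, mat j.val (e7.symm m) (e7.symm k) • gam m) * clif (root j) := by decide +kernel

theorem clif_single (k : Fin 7) : clif (Pi.single (e7.symm k) 1) = gam k := by
  rw [clif, Finset.sum_eq_single k]
  · rw [Pi.single_eq_same, one_smul]
  · intro m _ hm
    rw [Pi.single_eq_of_ne (fun h => hm (e7.symm.injective h)), zero_smul]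
  · exact fun h => absurd (Finset.mem_univ k) h

/-- The units lifting the generators. -/
def spinor (j : Fin 8) : GL (Fin 8) F3 :=
  ⟨clif (root j), -clif (root j), by rw [mul_neg, root_sq, neg_neg], by rw [neg_mul, root_sq, neg_neg]⟩

/-- The lifts of the letters. -/
def lift2 (x : ℕ) : GL (Fin 8) F3 × Om :=
  if h : 1 ≤ x ∧ x ≤ 8 then (spinor ⟨x - 1, by omega⟩, mW x) else 1

/-- The matrix of an element of `Ω₇(3)`. -/
def toMat : Om →* Matrix Idx Idx F3 :=
  (Units.coeHom _).comp ((Subgroup.subtype _).comp (Subgroup.subtype _))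

/-- A matrix lying over an isometry. -/
def Over (p : GL (Fin 8) F3 × Om) : Prop :=
  ∀ v : Idx → F3, (p.1 : M8) * clif v = clif (toMat p.2 *ᵥ v) * (p.1 : M8)

theorem over_one : Over 1 := fun v => by simp [Over, toMat]

theorem over_mul {p q : GL (Fin 8) F3 × Om} (hp : Over p) (hq : Over q) : Over (p * q) := fun v => by
  rw [Prod.fst_mul, Prod.snd_mul, Units.val_mul, map_mul, Matrix.mul_assoc, hq v, ← Matrix.mul_assoc, hp,
    Matrix.mulVec_mulVec, Matrix.mul_assoc]

theorem over_inv {p : GL (Fin 8) F3 × Om} (hp : Over p) : Over p⁻¹ := fun v => by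
  have e : toMat p.2 *ᵥ (toMat p⁻¹.2 *ᵥ v) = v := by
    rw [Matrix.mulVec_mulVec, ← map_mul, Prod.snd_inv, mul_inv_cancel, map_one, Matrix.one_mulVec]
  have h := hp (toMat p⁻¹.2 *ᵥ v)
  rw [e] at h
  rw [Prod.fst_inv]
  calc ((p.1⁻¹ : GL (Fin 8) F3) : M8) * clif v
      = ((p.1⁻¹ : GL (Fin 8) F3) : M8) * (clif v * ((p.1 : M8) * ((p.1⁻¹ : GL (Fin 8) F3) : M8))) := by
        rw [← Units.val_mul, mul_inv_cancel, Units.val_one, Matrix.mul_one]
    _ = ((p.1⁻¹ : GL (Fin 8) F3) : M8) * ((p.1 : M8) * clif (toMat p⁻¹.2 *ᵥ v)) *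
          ((p.1⁻¹ : GL (Fin 8) F3) : M8) := by rw [h]; simp only [Matrix.mul_assoc]
    _ = clif (toMat p⁻¹.2 *ᵥ v) * ((p.1⁻¹ : GL (Fin 8) F3) : M8) := by
        rw [← Matrix.mul_assoc ((p.1⁻¹ : GL (Fin 8) F3) : M8) (p.1 : M8), ← Units.val_mul, inv_mul_cancel,
          Units.val_one, Matrix.one_mul]

theorem clif_eq_sum (v : Idx → F3) : clif v = ∑ k : Fin 7, v (e7.symm k) • gam k := rfl

theorem over_lift (x : ℕ) : Over (lift2 x) := by
  by_cases h : 1 ≤ x ∧ x ≤ 8
  · intro v
    set j : Fin 8 := ⟨x - 1, by omega⟩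
    have e1 : ((lift2 x).1 : M8) = clif (root j) := by rw [lift2, dif_pos h]; rfl
    have e2 : toMat (lift2 x).2 = mat j.val := by
      rw [lift2, dif_pos h]
      show (((mO x : O) : GL Idx F3) : Matrix Idx Idx F3) = _
      rw [mO, dif_pos h]
      rfl
    rw [e1, e2, clif_eq_sum v, Finset.mul_sum]
    have hmv : ∀ m : Fin 7, (mat j.val *ᵥ v) (e7.symm m) =
        ∑ k : Fin 7, mat j.val (e7.symm m) (e7.symm k) * v (e7.symm k) := fun m => by
      rw [Matrix.mulVec, dotProduct]
      exact (e7.symm.sum_comp fun b => mat j.val (e7.symm m) b * v b).symm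
    calc ∑ k : Fin 7, clif (root j) * (v (e7.symm k) • gam k)
        = ∑ k : Fin 7, (∑ m : Fin 7, (v (e7.symm k) * mat j.val (e7.symm m) (e7.symm k)) • gam m) *
            clif (root j) := by
          refine Finset.sum_congr rfl fun k _ => ?_
          rw [Matrix.mul_smul, root_gam, ← Matrix.smul_mul, Finset.smul_sum]
          simp only [smul_smul]
      _ = (∑ m : Fin 7, ∑ k : Fin 7, (v (e7.symm k) * mat j.val (e7.symm m) (e7.symm k)) • gam m) *
            clif (root j) := by rw [Finset.sum_comm, ← Finset.sum_mul]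
      _ = clif (mat j.val *ᵥ v) * clif (root j) := by
          congr 1
          rw [clif_eq_sum]
          refine Finset.sum_congr rfl fun m _ => ?_
          rw [hmv, Finset.sum_smul]
          exact Finset.sum_congr rfl fun k _ => by rw [mul_comm]
  · rw [lift2, dif_neg h]; exact over_one

/-- The double cover. -/
def Cov : Subgroup (GL (Fin 8) F3 × Om) := Level lift2 sel

theorem over_cov {p : GL (Fin 8) F3 × Om} (hp : p ∈ Cov) : Over p := by
  induction hp using Subgroup.closure_induction with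
  | mem q hq => obtain ⟨x, -, rfl⟩ := hq; exact over_lift x
  | one => exact over_one
  | mul a b _ _ ha hb => exact over_mul ha hb
  | inv a _ ha => exact over_inv ha

theorem units_ok : ∀ a b : Fin 8, Matrix.single a b (1 : F3) =
    ((unitWords.getD (8 * a.val + b.val) (0, [])).1 : F3) •
      ((unitWords.getD (8 * a.val + b.val) (0, [])).2.map fun i => dec (gamCodes.getD i 0)).prod := by
  decide +kernel

theorem word_lt : ∀ a b : Fin 8, ∀ i ∈ (unitWords.getD (8 * a.val + b.val) (0, [])).2, i < 7 := by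
  decide +kernel

/-- A matrix commuting with the Clifford matrices is a scalar. -/
theorem scalar_of_commute {A : M8} (h : ∀ k, A * gam k = gam k * A) : ∃ r : F3, A = Matrix.scalar (Fin 8) r := by
  have h1 : ∀ a b : Fin 8, a ≠ b → Commute (Matrix.single a b (1 : F3)) A := fun a b _ => by
    rw [units_ok]
    refine Commute.smul_left ?_ _
    refine Commute.list_prod_left _ _ fun y hy => ?_
    obtain ⟨i, hi, rfl⟩ := List.mem_map.mp hy
    exact (h ⟨i, word_lt a b i hi⟩).symm
  obtain ⟨r, hr⟩ := Matrix.mem_range_scalar_of_commute_single (M := A) h1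
  exact ⟨r, hr.symm⟩

/-- The projection. -/
def proj : Cov →* Om := (MonoidHom.snd _ _).comp Cov.subtype

theorem proj_surjective : Function.Surjective proj := by
  rw [← MonoidHom.range_eq_top, eq_top_iff, ← level_top, Level, Subgroup.closure_le]
  rintro _ ⟨x, hx, rfl⟩
  refine ⟨⟨lift2 x, mem_level lift2 hx⟩, ?_⟩
  show (lift2 x).2 = mW x
  rw [lift2, dif_pos ((by decide : ∀ x ∈ sel, 1 ≤ x ∧ x ≤ 8) x hx)]

theorem ker_cases (p : proj.ker) : ((p.1 : GL (Fin 8) F3 × Om).1 : M8) = 1 ∨
    ((p.1 : GL (Fin 8) F3 × Om).1 : M8) = -1 := by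
  set A := ((p.1 : GL (Fin 8) F3 × Om).1 : M8) with hA
  have hB : (p.1 : GL (Fin 8) F3 × Om).2 = 1 := p.2
  obtain ⟨r, hr⟩ := scalar_of_commute (A := A) fun k => by
    have h := over_cov p.1.2 (Pi.single (e7.symm k) 1)
    rwa [hB, map_one, Matrix.one_mulVec, clif_single] at h
  rcases (by decide : ∀ r : F3, r = 0 ∨ r = 1 ∨ r = -1) r with rfl | rfl | rfl
  · exfalso
    rw [map_zero] at hr
    have h2 := congrArg (fun u : GL (Fin 8) F3 => (u : M8)) (mul_inv_cancel (p.1 : GL (Fin 8) F3 × Om).1)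
    simp only [Units.val_mul, Units.val_one, ← hA, hr, Matrix.zero_mul] at h2
    exact absurd (congrFun (congrFun h2 0) 0) (by decide)
  · exact Or.inl (hr.trans (map_one _))
  · exact Or.inr (hr.trans (by rw [map_neg, map_one]))

theorem ker_le_center : proj.ker ≤ Subgroup.center Cov := by
  intro a ha
  rw [Subgroup.mem_center_iff]
  intro b
  refine Subtype.ext (Prod.ext (Units.ext ?_) ?_)
  · show ((b.1.1 * a.1.1 : GL (Fin 8) F3) : M8) = ((a.1.1 * b.1.1 : GL (Fin 8) F3) : M8)
    rw [Units.val_mul, Units.val_mul]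
    rcases ker_cases ⟨a, ha⟩ with h | h
    · rw [show (a.1.1 : M8) = 1 from h, Matrix.mul_one, Matrix.one_mul]
    · rw [show (a.1.1 : M8) = -1 from h, Matrix.mul_neg, Matrix.neg_mul, Matrix.mul_one, Matrix.one_mul]
  · show b.1.2 * a.1.2 = a.1.2 * b.1.2
    rw [show a.1.2 = 1 from ha, mul_one, one_mul]

theorem anticomm : clif (root 0) * clif (root 2) = -(clif (root 2) * clif (root 0)) := by decide +kernel

theorem one_ne_neg : (1 : M8) ≠ -1 := fun h => absurd (congrFun (congrFun h 0) 0) (by decide)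

theorem exists_stem : ∃ (Γ : Type) (_ : Group Γ) (_ : Finite Γ) (σ : Γ →* Om),
    Cfsg.IsStemExtension σ ∧ Nat.card σ.ker = 2 := by
  haveI := finite_om
  haveI : Finite Cov := inferInstance
  set a : Cov := ⟨lift2 1, mem_level lift2 (by decide)⟩
  set b : Cov := ⟨lift2 3, mem_level lift2 (by decide)⟩
  have hab : ⁅a, b⁆ ∈ proj.ker := by
    rw [MonoidHom.mem_ker, map_commutatorElement, commutatorElement_eq_one_iff_commute]
    have e : ∀ x ∈ [1, 3], (lift2 x).2 = mW x := fun x hx => by
      rw [lift2, dif_pos ((by decide : ∀ x ∈ [1, 3], 1 ≤ x ∧ x ≤ 8) x hx)]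
    show Commute (lift2 1).2 (lift2 3).2
    rw [e 1 (by decide), e 3 (by decide)]
    exact mW_comm (by decide) (by decide) (by decide) rfl
  set z : proj.ker := ⟨⁅a, b⁆, hab⟩
  have hz : ((z.1 : GL (Fin 8) F3 × Om).1 : M8) = -1 := by
    have e : (z.1 : GL (Fin 8) F3 × Om).1 = ⁅spinor 0, spinor 2⁆ := by
      show (⁅lift2 1, lift2 3⁆).1 = _
      rfl
    rw [e, commutatorElement_def]
    simp only [Units.val_mul]
    show clif (root 0) * clif (root 2) * -clif (root 0) * -clif (root 2) = -1
    simp only [Matrix.mul_neg, Matrix.neg_mul, neg_neg]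
    rw [anticomm]
    simp only [Matrix.neg_mul, Matrix.mul_assoc]
    rw [← Matrix.mul_assoc (clif (root 0)) (clif (root 0)), root_sq]
    simp only [Matrix.mul_neg, Matrix.neg_mul, Matrix.one_mul, neg_neg]
    exact root_sq 2
  have hcases : ∀ p : proj.ker, p = 1 ∨ p = z := fun p => by
    rcases ker_cases p with h | h
    · exact Or.inl (Subtype.ext (Subtype.ext (Prod.ext (Units.ext h) p.2)))
    · exact Or.inr (Subtype.ext (Subtype.ext (Prod.ext (Units.ext (h.trans hz.symm)) (p.2.trans z.2.symm))))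
  refine ⟨Cov, inferInstance, inferInstance, proj, ⟨proj_surjective, ker_le_center, fun p hp => ?_⟩, ?_⟩
  · rcases hcases ⟨p, hp⟩ with h | h
    · rw [show p = 1 from congrArg Subtype.val h]; exact one_mem _
    · rw [show p = ⁅a, b⁆ from congrArg Subtype.val h]
      exact Subgroup.commutator_mem_commutator (Subgroup.mem_top _) (Subgroup.mem_top _)
  · rw [Nat.card_eq_two_iff]
    refine ⟨1, z, fun h => one_ne_neg ?_, ?_⟩
    · rw [← hz, ← h]; rfl
    · exact Set.eq_univ_of_forall fun p => (hcases p).imp id id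

end CfsgLib.SchurO7.Double
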