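import Cfsg.Agent.Lib.CosetEnum.O7.Iso
import Cfsg.Agent.Lib.Schur.OmegaSeven.Words

/-!
The eight generating involutions of `Ω₇(3)`, their relators, and perfectness from the relators.
-/

set_option autoImplicit false

namespace CfsgLib.SchurO7

open CfsgLib.CosetEnum
open CfsgLib.CosetEnum.O7 (F3 Qf Om mW mO)

/-- The letters of the diagram. -/
def sel : List ℕ := [1, 2, 3, 4, 5, 6, 7, 8]

/-- The word of order dividing nine in the `E₇` part. -/
def w9 : List ℕ := (List.replicate 9 [1, 2, 3, 4, 5, 6, 7]).flatten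

/-- Adjacency in the diagram. -/
def adj (i j : ℕ) : Bool :=
  decide ((i, j) ∈ [(1, 2), (2, 3), (3, 4), (4, 5), (5, 6), (3, 7), (7, 8)] ∨
    (j, i) ∈ [(1, 2), (2, 3), (3, 4), (4, 5), (5, 6), (3, 7), (7, 8)])

theorem card_om : Nat.card Om = 4585351680 := O7.card_Om

theorem finite_om : Finite Om := Nat.finite_of_card_ne_zero (by rw [card_om]; omega)

theorem mW_out {x : ℕ} (hx : x ∉ sel) : mW x = 1 := by
  refine Subtype.ext ?_
  show mO x = 1
  rw [mO, dif_neg]
  intro h
  simp only [sel, List.mem_cons, List.not_mem_nil, or_false] at hx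
  omega

theorem mW_inv (x : ℕ) : (mW x)⁻¹ = mW x := Subtype.ext (O7.mO_inv x)

theorem lsG_sub : ∀ l ∈ lsG, l ∈ O7.ls8 ∧ ∀ x ∈ l, x ∈ sel := by decide +kernel

theorem mW_word {l : List ℕ} (hl : l ∈ lsG) : (l.map mW).prod = 1 := by
  refine Subtype.ext ?_
  have h : (Subgroup.subtype _) ((l.map mW).prod) = 1 := by
    rw [map_list_prod, List.map_map]; exact O7.mO_word (lsG_sub l hl).1
  exact h

theorem lsC_sub : ∀ l ∈ lsC, l ∈ lsG := by decide +kernel

theorem spider_sub : spider ∈ lsG := by decide +kernel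

theorem w9_sub : w9 ∈ lsC := by decide +kernel

theorem level_top : Level mW sel = ⊤ := by
  haveI := finite_om
  refine Subgroup.eq_top_of_le_card _ ?_
  rw [card_om]
  refine O7.Base.lower Om inferInstance (O7.π.comp (Subgroup.subtype _)) (Level mW sel) inferInstance ?_
  intro j hj
  have hj : j < 8 := hj
  refine ⟨mW (j + 1), mem_level mW (by simp only [sel, List.mem_cons, List.not_mem_nil, or_false]; omega),
    fun k => ?_⟩
  show ((O7.π (mO (j + 1)) k : Fin 2187) : ℕ) = _
  rw [mO, dif_pos (by omega : 1 ≤ j + 1 ∧ j + 1 ≤ 8)]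
  exact O7.π_gen ⟨j, hj⟩ k

/-- A group generated by eight involutions with the braid relations and the `E₇` relator is perfect. -/
theorem perfect_of_rels {X : Type*} [Group X] {y : ℕ → X} (hsq : ∀ i ∈ sel, y i * y i = 1)
    (hbr : ∀ i ∈ sel, ∀ j ∈ sel, adj i j = true → y i * y j * y i = y j * y i * y j)
    (hw : (w9.map y).prod = 1) (hgen : Level y sel = ⊤) : commutator X = ⊤ := by
  set A : X →* Abelianization X := Abelianization.of with hA
  have step : ∀ i j, i ∈ sel → j ∈ sel → adj i j = true → A (y i) = A (y j) := by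
    intro i j hi hj h
    have h1 := congrArg A (hbr i hi j hj h)
    simp only [map_mul] at h1
    rw [mul_comm (A (y j)) (A (y i)), mul_assoc, mul_assoc] at h1
    have h2 := mul_left_cancel h1
    rw [mul_comm (A (y j)) (A (y i))] at h2
    exact mul_right_cancel h2
  have hall : ∀ i ∈ sel, A (y i) = A (y 1) := by
    have h2 := (step 1 2 (by decide) (by decide) rfl).symm
    have h3 := (step 2 3 (by decide) (by decide) rfl).symm.trans h2
    have h4 := (step 3 4 (by decide) (by decide) rfl).symm.trans h3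
    have h5 := (step 4 5 (by decide) (by decide) rfl).symm.trans h4
    have h6 := (step 5 6 (by decide) (by decide) rfl).symm.trans h5
    have h7 := (step 3 7 (by decide) (by decide) rfl).symm.trans h3
    have h8 := (step 7 8 (by decide) (by decide) rfl).symm.trans h7
    intro i hi
    simp only [sel, List.mem_cons, List.not_mem_nil, or_false] at hi
    rcases hi with rfl | rfl | rfl | rfl | rfl | rfl | rfl | rfl
    exacts [rfl, h2, h3, h4, h5, h6, h7, h8]
  have hprod : ∀ l : List ℕ, (∀ i ∈ l, i ∈ sel) → A ((l.map y).prod) = A (y 1) ^ l.length := by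
    intro l
    induction l with
    | nil => intro _; simp
    | cons i r ih =>
      intro hl
      rw [List.map_cons, List.prod_cons, map_mul, hall i (hl i (by simp)),
        ih fun j hj => hl j (List.mem_cons_of_mem _ hj), List.length_cons, pow_succ']
  have h63 := hprod w9 (by decide +kernel)
  rw [hw, map_one, show w9.length = 63 from by decide +kernel] at h63
  have h2 : A (y 1) ^ 2 = 1 := by rw [pow_two, ← map_mul, hsq 1 (by decide), map_one]
  have h1 : A (y 1) = 1 := by
    have := h63.symm
    rwa [show 63 = 2 * 31 + 1 from rfl, pow_succ, pow_mul, h2, one_pow, one_mul] at this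
  have hle : (⊤ : Subgroup X) ≤ commutator X := by
    rw [← hgen, Level, Subgroup.closure_le]
    rintro _ ⟨i, hi, rfl⟩
    exact (QuotientGroup.eq_one_iff _).mp ((hall i hi).trans h1)
  exact top_le_iff.mp hle

theorem mW_sq : ∀ i, mW i * mW i = 1 := fun i => by
  nth_rw 1 [← mW_inv i]; exact inv_mul_cancel _

theorem braid_of_word {X : Type*} [Group X] {y : ℕ → X} (hinv : ∀ i, y i * y i = 1) {i j : ℕ}
    (h : ([i, j, i, j, i, j].map y).prod = 1) : y i * y j * y i = y j * y i * y j := by
  simp only [List.map_cons, List.map_nil, List.prod_cons, List.prod_nil, mul_one] at h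
  have e : ∀ k, (y k)⁻¹ = y k := fun k => inv_eq_of_mul_eq_one_right (hinv k)
  have h1 : (y i * y j * y i) * (y j * y i * y j) = 1 := by simpa only [mul_assoc] using h
  rw [eq_inv_of_mul_eq_one_left h1, mul_inv_rev, mul_inv_rev, e, e, ← mul_assoc]

theorem comm_of_word {X : Type*} [Group X] {y : ℕ → X} (hinv : ∀ i, y i * y i = 1) {i j : ℕ}
    (h : ([i, j, i, j].map y).prod = 1) : y i * y j = y j * y i := by
  simp only [List.map_cons, List.map_nil, List.prod_cons, List.prod_nil, mul_one] at h
  have e : ∀ k, (y k)⁻¹ = y k := fun k => inv_eq_of_mul_eq_one_right (hinv k)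
  have h1 : (y i * y j) * (y i * y j) = 1 := by simpa only [mul_assoc] using h
  rw [eq_inv_of_mul_eq_one_left h1, mul_inv_rev, e, e]

theorem braid_mem : ∀ i ∈ sel, ∀ j ∈ sel, adj i j = true → [i, j, i, j, i, j] ∈ lsC := by decide +kernel

theorem comm_mem : ∀ i ∈ sel, ∀ j ∈ sel, i ≠ j → adj i j = false → [i, j, i, j] ∈ lsC := by decide +kernel

theorem mW_braid {i j : ℕ} (hi : i ∈ sel) (hj : j ∈ sel) (h : adj i j = true) :
    mW i * mW j * mW i = mW j * mW i * mW j :=
  braid_of_word mW_sq (mW_word (lsC_sub _ (braid_mem i hi j hj h)))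

theorem mW_comm {i j : ℕ} (hi : i ∈ sel) (hj : j ∈ sel) (hne : i ≠ j) (h : adj i j = false) :
    mW i * mW j = mW j * mW i :=
  comm_of_word mW_sq (mW_word (lsC_sub _ (comm_mem i hi j hj hne h)))

theorem perfect_om : commutator Om = ⊤ :=
  perfect_of_rels (fun i _ => mW_sq i) (fun _ hi _ hj h => mW_braid hi hj h)
    (mW_word (lsC_sub _ w9_sub)) level_top

end CfsgLib.SchurO7
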