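import Cfsg.Agent.Lib.Schur.OmegaSeven.Bound
import Cfsg.Agent.Lib.Schur.CoxeterCover
import Cfsg.Agent.Lib.Weyl.E7
import Cfsg.Prelude.Def_KGroupFacts

/-!
Lifts of the eight generators of `Ω₇(3)` to a stem extension: common square, exact braid relations, one
commutator `c` with `c² = 1` for all commuting pairs; the kernel of a stem extension has order 1, 2, 3 or 6.
-/

set_option autoImplicit false

namespace CfsgLib.SchurO7

open CfsgLib.CosetEnum CfsgLib.Schur.CoxeterCover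
open CfsgLib.CosetEnum.O7 (Om mW)
open scoped commutatorElement

/-- The derivation of all commuting pairs from the pair `(1, 3)`. -/
def steps : List (ℕ × ℕ × ℕ) := [(3, 4, 1), (3, 7, 1), (4, 5, 1), (5, 6, 1), (7, 8, 1), (1, 2, 4), (1, 2, 5),
  (1, 2, 6), (1, 2, 7), (1, 2, 8), (2, 3, 5), (2, 3, 6), (2, 3, 8), (3, 4, 6), (3, 4, 8), (3, 7, 5), (3, 7, 6),
  (4, 5, 8), (5, 4, 7), (5, 6, 8)]

/-- One derivation step. -/
def step (L : List (ℕ × ℕ)) (p : ℕ × ℕ × ℕ) : List (ℕ × ℕ) :=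
  if p.1 ∈ sel ∧ p.2.1 ∈ sel ∧ p.2.2 ∈ sel ∧ adj p.1 p.2.1 = true ∧ adj p.2.1 p.2.2 = false ∧ p.2.1 ≠ p.2.2 ∧
      adj p.1 p.2.2 = false ∧ p.1 ≠ p.2.2 ∧ ((p.1, p.2.2) ∈ L ∨ (p.2.2, p.1) ∈ L)
  then (p.2.1, p.2.2) :: L else L

theorem derived_all : ∀ i ∈ sel, ∀ j ∈ sel, i ≠ j → adj i j = false →
    (i, j) ∈ steps.foldl step [(1, 3)] ∨ (j, i) ∈ steps.foldl step [(1, 3)] := by decide +kernel

/-- Letters of the nodes of `E₇`. -/
def e7 : Fin 7 → ℕ := ![1, 7, 2, 3, 4, 5, 6]

theorem e7_table : ∀ i j : Fin 7,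
    (decide (i = j) || decide (CoxeterMatrix.E₇.M i j = bif adj (e7 i) (e7 j) then 3 else 2)) = true := by
  decide +kernel

theorem e7_matrix (i j : Fin 7) (h : i ≠ j) : (CoxeterMatrix.E₇ i j = 2 ∧ adj (e7 i) (e7 j) = false) ∨
    (CoxeterMatrix.E₇ i j = 3 ∧ adj (e7 i) (e7 j) = true) := by
  have h1 := e7_table i j
  simp only [Bool.or_eq_true, decide_eq_true_eq, h, false_or] at h1
  cases ha : adj (e7 i) (e7 j) <;> rw [ha] at h1
  · exact Or.inl ⟨h1, rfl⟩
  · exact Or.inr ⟨h1, rfl⟩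

theorem e7_mem : ∀ i : Fin 7, e7 i ∈ sel ∧ ∀ j : Fin 7, i ≠ j → e7 i ≠ e7 j := by decide +kernel

theorem sel_lt : ∀ i ∈ sel, i < 16 := by decide

section lifts

variable {Γ : Type} [Group Γ] (σ : Γ →* Om)

/-- Facts about the lifts. -/
structure Good (x : ℕ → Γ) (z₀ : Γ) : Prop where
  map : ∀ i, σ (x i) = mW i
  out : ∀ i, i ∉ sel → x i = 1
  sq : ∀ i ∈ sel, x i * x i = z₀
  braid : ∀ i ∈ sel, ∀ j ∈ sel, adj i j = true → x i * x j * x i = x j * x i * x j

variable (hs : Function.Surjective σ) (hc : ∀ a, σ a = 1 → ∀ b : Γ, Commute a b)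

include hs hc in
theorem exists_next {z₀ t : Γ} (i j : ℕ) (hi : i ∈ sel) (hj : j ∈ sel) (h : adj i j = true) (ht : σ t = mW i)
    (hsq : t * t = z₀) : ∃ u : Γ, σ u = mW j ∧ t * u * t = u * t * u ∧ u * u = z₀ := by
  obtain ⟨u, h1, h2, h3⟩ := exists_braid_lift σ hc hs (t := t) (b := mW j)
    (by rw [ht]; exact mW_braid hi hj h) (by rw [map_mul, ht]; exact mW_sq i)
  exact ⟨u, h1, h2, h3.trans hsq⟩

include hs hc in
theorem exists_good : ∃ (x : ℕ → Γ) (z₀ : Γ), Good σ x z₀ := by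
  obtain ⟨b, hb⟩ := hs (mW 1)
  obtain ⟨c, hc', qc, sc⟩ := exists_next σ hs hc 1 2 (by decide) (by decide) rfl hb rfl
  obtain ⟨d, hd, qd, sd⟩ := exists_next σ hs hc 2 3 (by decide) (by decide) rfl hc' sc
  obtain ⟨e, he, qe, se⟩ := exists_next σ hs hc 3 4 (by decide) (by decide) rfl hd sd
  obtain ⟨f, hf, qf, sf⟩ := exists_next σ hs hc 4 5 (by decide) (by decide) rfl he se
  obtain ⟨k, hk, qk, sk⟩ := exists_next σ hs hc 5 6 (by decide) (by decide) rfl hf sf
  obtain ⟨h, hh, qh, sh⟩ := exists_next σ hs hc 3 7 (by decide) (by decide) rfl hd sd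
  obtain ⟨l, hl, ql, sl⟩ := exists_next σ hs hc 7 8 (by decide) (by decide) rfl hh sh
  refine ⟨fun i => [1, b, c, d, e, f, k, h, l].getD i 1, b * b, ⟨fun i => ?_, fun i hi => ?_, fun i hi => ?_,
    fun i hi j hj h' => ?_⟩⟩
  · rcases Nat.lt_or_ge i 9 with h9 | h9
    · interval_cases i
      exacts [(map_one σ).trans (mW_out (by decide)).symm, hb, hc', hd, he, hf, hk, hh, hl]
    · show σ ([1, b, c, d, e, f, k, h, l].getD i 1) = _
      rw [List.getD_eq_default _ _ (by simpa using h9), map_one, mW_out]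
      simp only [sel, List.mem_cons, List.not_mem_nil, or_false]; omega
  · rcases Nat.lt_or_ge i 9 with h9 | h9
    · interval_cases i <;> first | rfl | exact absurd (by decide) hi
    · exact List.getD_eq_default _ _ (by simpa using h9)
  · simp only [sel, List.mem_cons, List.not_mem_nil, or_false] at hi
    rcases hi with rfl | rfl | rfl | rfl | rfl | rfl | rfl | rfl
    exacts [rfl, sc, sd, se, sf, sk, sh, sl]
  · simp only [sel, List.mem_cons, List.not_mem_nil, or_false] at hi hj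
    rcases hi with rfl | rfl | rfl | rfl | rfl | rfl | rfl | rfl <;>
      rcases hj with rfl | rfl | rfl | rfl | rfl | rfl | rfl | rfl <;>
      first
      | exact absurd h' (by decide)
      | assumption
      | exact qc.symm | exact qd.symm | exact qe.symm | exact qf.symm | exact qk.symm | exact qh.symm
      | exact ql.symm

variable {σ} {x : ℕ → Γ} {z₀ : Γ} (hx : Good σ x z₀)

include hc hx in
theorem z0_comm (b : Γ) : Commute z₀ b :=
  hc z₀ (by rw [← hx.sq 1 (by decide), map_mul, hx.map]; exact mW_sq 1) b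

include hc hx in
theorem c_comm (b : Γ) : Commute ⁅x 1, x 3⁆ b :=
  hc _ (map_commutator_eq_one σ (by rw [hx.map, hx.map]; exact mW_comm (by decide) (by decide) (by decide) rfl)) b

include hc hx in
theorem c_sq : ⁅x 1, x 3⁆ * ⁅x 1, x 3⁆ = 1 := by
  have h : ⁅x 1 * x 1, x 3⁆ = 1 := by
    rw [hx.sq 1 (by decide), commutatorElement_eq_one_iff_commute]; exact z0_comm hc hx _
  have e : ⁅x 1 * x 1, x 3⁆ = x 1 * ⁅x 1, x 3⁆ * (x 1)⁻¹ * ⁅x 1, x 3⁆ := by
    simp only [commutatorElement_def]; group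
  rw [e, ← (c_comm hc hx (x 1)).eq, mul_inv_cancel_right] at h
  exact h

include hc hx in
theorem comm_all {i j : ℕ} (hi : i ∈ sel) (hj : j ∈ sel) (hne : i ≠ j) (h : adj i j = false) :
    ⁅x i, x j⁆ = ⁅x 1, x 3⁆ := by
  have hinv : ⁅x 1, x 3⁆⁻¹ = ⁅x 1, x 3⁆ := inv_eq_of_mul_eq_one_right (c_sq hc hx)
  have hflip : ∀ a b, ⁅x a, x b⁆ = ⁅x 1, x 3⁆ → ⁅x b, x a⁆ = ⁅x 1, x 3⁆ := fun a b h' => by
    rw [← commutatorElement_inv, h', hinv]
  have key : ∀ (S : List (ℕ × ℕ × ℕ)) (L : List (ℕ × ℕ)), (∀ p ∈ L, ⁅x p.1, x p.2⁆ = ⁅x 1, x 3⁆) →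
      ∀ p ∈ S.foldl step L, ⁅x p.1, x p.2⁆ = ⁅x 1, x 3⁆ := by
    intro S
    induction S with
    | nil => exact fun L hL => hL
    | cons s r ih =>
      intro L hL
      rw [List.foldl_cons]
      refine ih _ fun p hp => ?_
      obtain ⟨a, k, b⟩ := s
      rw [step] at hp
      split_ifs at hp with hcond
      · obtain ⟨ha, hk, hb, hak, hkb, hkbne, hab, habne, hmem⟩ := hcond
        rcases List.mem_cons.mp hp with rfl | hp
        · have hC : ⁅x a, x b⁆ = ⁅x 1, x 3⁆ := hmem.elim (fun h => hL _ h) (fun h => hflip _ _ (hL _ h))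
          exact (commutator_transfer σ hc (hx.braid a ha k hk hak)
              (by rw [hx.map a, hx.map b]; exact mW_comm ha hb habne hab)
              (by rw [hx.map k, hx.map b]; exact mW_comm hk hb hkbne hkb)).trans hC
        · exact hL p hp
      · exact hL p hp
  have hbase : ∀ p ∈ [(1, 3)], ⁅x (p : ℕ × ℕ).1, x p.2⁆ = ⁅x 1, x 3⁆ := by
    intro p hp; rw [List.mem_singleton] at hp; subst hp; rfl
  rcases derived_all i hi j hj hne h with h1 | h1
  · exact key _ _ hbase _ h1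
  · exact hflip _ _ (key _ _ hbase _ h1)

variable (hcom : ∀ i ∈ sel, ∀ j ∈ sel, i ≠ j → adj i j = false → Commute (x i) (x j))

include hc hx in
theorem map_word (l : List ℕ) : σ ((l.map x).prod) = (l.map mW).prod := by
  rw [map_list_prod, List.map_map]
  exact congrArg List.prod (List.map_congr_left fun i _ => hx.map i)

include hc hx hcom in
theorem w9_sq : (w9.map x).prod * (w9.map x).prod = z₀ ^ 63 := by
  set M := CoxeterMatrix.E₇
  have hz := z0_comm hc hx
  have hR : CfsgLib.Schur.CoxeterCover.Rels M (fun i => x (e7 i)) z₀ 1 := by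
    refine ⟨fun i j hij => (e7_matrix i j hij).elim (fun h => Or.inl h.1) (fun h => Or.inr h.1), hz,
      fun b => Commute.one_left b, fun i => hx.sq _ (e7_mem i).1, fun i j h => ?_, fun i j h => ?_⟩
    · have hij : i ≠ j := by rintro rfl; rw [M.diagonal] at h; omega
      rcases e7_matrix i j hij with ⟨-, ha⟩ | ⟨h3, -⟩
      · rw [one_mul]
        exact (hcom _ (e7_mem i).1 _ (e7_mem j).1 ((e7_mem i).2 j hij) ha).eq
      · rw [h] at h3; omega
    · have hij : i ≠ j := by rintro rfl; rw [M.diagonal] at h; omega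
      rcases e7_matrix i j hij with ⟨h2, -⟩ | ⟨-, ha⟩
      · rw [h] at h2; omega
      · exact hx.braid _ (e7_mem i).1 _ (e7_mem j).1 ha
  have hN := relSubgroup_normal (z := z₀) (c := (1 : Γ)) hz (fun b => Commute.one_left b)
  let ψ := M.toCoxeterSystem.lift ⟨_, isLiftable hR⟩
  have hψ : ∀ i, ψ (M.simple i) = QuotientGroup.mk' (relSubgroup z₀ (1 : Γ))
      (x (e7 i), Multiplicative.ofAdd (1 : ℤ)) := fun i =>
    M.toCoxeterSystem.lift_apply_simple (isLiftable hR) i
  set cw : List (Fin 7) := [0, 2, 3, 4, 5, 6, 1]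
  have hord : orderOf (CfsgLib.Weyl.wp M cw) = 18 :=
    CfsgLib.Weyl.orderOf_wp CfsgLib.Weyl.E7.card_and_faithful.2.2 cw 18 (by decide +kernel)
  have hwp : ψ (CfsgLib.Weyl.wp M cw) = QuotientGroup.mk' (relSubgroup z₀ (1 : Γ))
      (([1, 2, 3, 4, 5, 6, 7].map x).prod, Multiplicative.ofAdd (7 : ℤ)) := by
    simp only [CfsgLib.Weyl.wp, cw, List.map_cons, List.map_nil, List.prod_cons, List.prod_nil, map_mul,
      map_one, hψ]
    rw [← map_one (QuotientGroup.mk' (relSubgroup z₀ (1 : Γ)))]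
    simp only [← map_mul]
    rfl
  have h18 := congrArg ψ (pow_orderOf_eq_one (CfsgLib.Weyl.wp M cw))
  rw [hord, map_pow, hwp, map_one, ← map_pow] at h18
  have hmem : ((w9.map x).prod * (w9.map x).prod, Multiplicative.ofAdd (126 : ℤ)) ∈ relSubgroup z₀ (1 : Γ) := by
    have h := (QuotientGroup.eq_one_iff _).mp h18
    convert h using 1
    refine Prod.ext ?_ rfl
    show _ = ([1, 2, 3, 4, 5, 6, 7].map x).prod ^ 18
    rw [w9, List.map_flatten, List.map_replicate, List.prod_flatten, List.map_replicate, List.prod_replicate,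
      ← pow_add]
  have hzm : ((z₀, Multiplicative.ofAdd (2 : ℤ)) : Γ × Multiplicative ℤ) ∈ relSubgroup z₀ (1 : Γ) :=
    Subgroup.subset_closure (Or.inl rfl)
  have h1 := mul_mem hmem (inv_mem (pow_mem hzm 63))
  have h2 : (((w9.map x).prod * (w9.map x).prod) * (z₀ ^ 63)⁻¹, (1 : Multiplicative ℤ)) ∈
      relSubgroup z₀ (1 : Γ) := by
    convert h1 using 1
    exact Prod.ext rfl rfl
  have h3 := mem_zpowers_of_mem_relSubgroup hz h2
  rw [Subgroup.zpowers_one_eq_bot, Subgroup.mem_bot] at h3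
  exact mul_inv_eq_one.mp h3

end lifts

theorem perfect_of_stem {Γ : Type} [Group Γ] (σ : Γ →* Om) (hσ : Cfsg.IsStemExtension σ) :
    commutator Γ = ⊤ := by
  obtain ⟨hs, -, hd⟩ := hσ
  have h : (commutator Γ).map σ = ⊤ := by
    rw [commutator_def, Subgroup.map_commutator, Subgroup.map_top_of_surjective σ hs, ← commutator_def, perfect_om]
  refine eq_top_iff.mpr fun g _ => ?_
  obtain ⟨a, ha, hag⟩ := h.symm ▸ Subgroup.mem_top (σ g)
  have := hd (show σ (a⁻¹ * g) = 1 by rw [map_mul, map_inv, hag, inv_mul_cancel])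
  simpa using mul_mem ha this

/-- A central extension, perfect, in which the lifts commute exactly has kernel of order one or three. -/
theorem card_ker_of_comm {Γ : Type} [Group Γ] [Finite Γ] {σ : Γ →* Om} (hs : Function.Surjective σ)
    (hc : ∀ a, σ a = 1 → ∀ b : Γ, Commute a b) (hperf : commutator Γ = ⊤) {x : ℕ → Γ} {z₀ : Γ}
    (hx : Good σ x z₀) (hcom : ∀ i ∈ sel, ∀ j ∈ sel, i ≠ j → adj i j = false → Commute (x i) (x j)) :
    Nat.card σ.ker = 1 ∨ Nat.card σ.ker = 3 := by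
  haveI := finite_om
  set W := (w9.map x).prod with hWdef
  set t := W * (z₀ ^ 31)⁻¹ with ht
  have hz := z0_comm hc hx
  have hσW : σ W = 1 := by rw [hWdef, map_word hc hx]; exact mW_word (lsC_sub _ w9_sub)
  have hW : ∀ b, Commute W b := hc W hσW
  have htc : ∀ b, Commute t b := fun b => (hW b).mul_left ((hz b).pow_left 31).inv_left
  have ht2 : t * t = z₀ := by
    calc t * t = W * W * ((z₀ ^ 31)⁻¹ * (z₀ ^ 31)⁻¹) := by
          rw [ht, mul_assoc W, ← mul_assoc ((z₀ ^ 31)⁻¹), ← (hW (z₀ ^ 31)⁻¹).eq]; group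
      _ = z₀ := by rw [w9_sq hc hx hcom]; group
  have hσt : σ t = 1 := by
    rw [ht, map_mul, hσW, one_mul, map_inv, map_pow, ← hx.sq 1 (by decide), map_mul, hx.map, mW_sq, one_pow, inv_one]
  set y : ℕ → Γ := fun i => if i ∈ sel then x i * t⁻¹ else 1 with hy
  have hyi : ∀ i ∈ sel, y i = x i * t⁻¹ := fun i hi => if_pos hi
  have hout : ∀ i, i ∉ sel → y i = 1 := fun i hi => if_neg hi
  have hsq : ∀ i, y i * y i = 1 := fun i => by
    by_cases hi : i ∈ sel
    · rw [hyi i hi]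
      calc x i * t⁻¹ * (x i * t⁻¹) = x i * (x i * t⁻¹) * t⁻¹ := by
            rw [mul_assoc (x i), ((htc _).inv_left).eq, ← mul_assoc]
        _ = (x i * x i) * (t * t)⁻¹ := by group
        _ = 1 := by rw [hx.sq i hi, ht2, mul_inv_cancel]
    · rw [hout i hi, one_mul]
  have hmap : ∀ i, σ (y i) = mW i := fun i => by
    by_cases hi : i ∈ sel
    · rw [hyi i hi, map_mul, map_inv, hσt, inv_one, mul_one, hx.map]
    · rw [hout i hi, map_one, mW_out hi]
  have hprod : ∀ l : List ℕ, (∀ i ∈ l, i ∈ sel) → (l.map y).prod = (l.map x).prod * t⁻¹ ^ l.length := by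
    intro l
    induction l with
    | nil => intro _; simp
    | cons i r ih =>
      intro hl
      rw [List.map_cons, List.prod_cons, ih fun j hj => hl j (List.mem_cons_of_mem _ hj), hyi i (hl i (by simp)),
        List.map_cons, List.prod_cons, List.length_cons, pow_succ']
      calc x i * t⁻¹ * ((r.map x).prod * t⁻¹ ^ r.length) = x i * (t⁻¹ * (r.map x).prod) * t⁻¹ ^ r.length := by
            group
        _ = x i * ((r.map x).prod * t⁻¹) * t⁻¹ ^ r.length := by rw [((htc _).inv_left).eq]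
        _ = _ := by group
  have hC : ∀ l ∈ lsC, (l.map y).prod = 1 := by
    intro l hl
    rcases (by decide +kernel : ∀ l ∈ lsC, (∃ i ∈ sel, l = [i, i]) ∨
      (∃ i ∈ sel, ∃ j ∈ sel, (adj i j = true ∧ l = [i, j, i, j, i, j]) ∨ (adj i j = false ∧ i ≠ j ∧ l = [i, j, i, j])) ∨
      l = w9) l hl with ⟨i, hi, rfl⟩ | ⟨i, hi, j, hj, ⟨h, rfl⟩ | ⟨h, hne, rfl⟩⟩ | rfl
    · simpa using hsq i
    · have hb : y i * y j * y i = y j * y i * y j := by
        rw [hyi i hi, hyi j hj]
        have key : ∀ a b : Γ, a * t⁻¹ * (b * t⁻¹) * (a * t⁻¹) = a * b * a * (t⁻¹ * t⁻¹ * t⁻¹) := by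
          intro a b
          calc a * t⁻¹ * (b * t⁻¹) * (a * t⁻¹) = a * (t⁻¹ * b) * ((t⁻¹ * a) * t⁻¹) := by group
            _ = a * (b * t⁻¹) * ((a * t⁻¹) * t⁻¹) := by rw [((htc b).inv_left).eq, ((htc a).inv_left).eq]
            _ = a * b * (t⁻¹ * a) * (t⁻¹ * t⁻¹) := by group
            _ = _ := by rw [((htc a).inv_left).eq]; group
        rw [key, key, hx.braid i hi j hj h]
      simp only [List.map_cons, List.map_nil, List.prod_cons, List.prod_nil, mul_one]
      calc y i * (y j * (y i * (y j * (y i * y j)))) = (y i * y j * y i) * (y j * y i * y j) := by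
            simp only [mul_assoc]
        _ = (y j * y i * y j) * (y j * y i * y j) := by rw [hb]
        _ = y j * (y i * (y j * y j) * y i) * y j := by group
        _ = 1 := by rw [hsq, mul_one, hsq, mul_one, hsq]
    · have hcm : Commute (y i) (y j) := by
        rw [hyi i hi, hyi j hj]
        exact ((hcom i hi j hj hne h).mul_right ((htc (x i)).inv_left).symm).mul_left ((htc _).inv_left)
      simp only [List.map_cons, List.map_nil, List.prod_cons, List.prod_nil, mul_one]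
      calc y i * (y j * (y i * y j)) = y i * ((y j * y i) * y j) := by rw [mul_assoc (y j)]
        _ = y i * ((y i * y j) * y j) := by rw [hcm.eq]
        _ = (y i * y i) * (y j * y j) := by group
        _ = 1 := by rw [hsq, hsq, mul_one]
    · rw [hprod w9 (by decide +kernel), show w9.length = 63 from by decide +kernel, ← hWdef, inv_pow,
        show 63 = 2 * 31 + 1 from rfl, pow_succ, pow_mul, pow_two, ht2]
      rw [show z₀ ^ 31 * t = W from by rw [ht, (hW (z₀ ^ 31)⁻¹).eq, mul_inv_cancel_left], mul_inv_cancel]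
  have hv : ∀ b, Commute (spider.map y).prod b := hc _ (by
    rw [map_list_prod, List.map_map, show σ ∘ y = mW from funext hmap]; exact mW_word spider_sub)
  have hgen : Level y sel = ⊤ := by
    have h1 : ∀ g, ∃ a ∈ Level y sel, σ a = σ g := fun g => by
      have h2 : (Level y sel).map σ = ⊤ := by
        rw [eq_top_iff, ← level_top, Level, Subgroup.closure_le]
        rintro _ ⟨i, hi, rfl⟩
        exact ⟨y i, mem_level y hi, hmap i⟩
      exact Subgroup.mem_map.mp (h2.symm ▸ Subgroup.mem_top (σ g))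
    have h3 : commutator Γ ≤ Level y sel := by
      rw [commutator_def]
      refine Subgroup.commutator_le.mpr fun g _ h _ => ?_
      obtain ⟨a, ha, hag⟩ := h1 g
      obtain ⟨b, hb, hbh⟩ := h1 h
      have hka := hc (a⁻¹ * g) (by rw [map_mul, map_inv, hag, inv_mul_cancel])
      have hkb := hc (b⁻¹ * h) (by rw [map_mul, map_inv, hbh, inv_mul_cancel])
      have : ⁅g, h⁆ = ⁅a, b⁆ := by
        calc ⁅g, h⁆ = a * (a⁻¹ * g) * (b * (b⁻¹ * h)) * (a⁻¹ * g)⁻¹ * a⁻¹ * (b⁻¹ * h)⁻¹ * b⁻¹ := by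
              simp only [commutatorElement_def]; group
          _ = a * ((a⁻¹ * g) * (b * (b⁻¹ * h))) * (a⁻¹ * g)⁻¹ * a⁻¹ * (b⁻¹ * h)⁻¹ * b⁻¹ := by group
          _ = a * ((b * (b⁻¹ * h)) * (a⁻¹ * g)) * (a⁻¹ * g)⁻¹ * a⁻¹ * (b⁻¹ * h)⁻¹ * b⁻¹ := by rw [(hka _).eq]
          _ = a * b * ((b⁻¹ * h) * a⁻¹) * (b⁻¹ * h)⁻¹ * b⁻¹ := by group
          _ = a * b * (a⁻¹ * (b⁻¹ * h)) * (b⁻¹ * h)⁻¹ * b⁻¹ := by rw [(hkb _).eq]
          _ = ⁅a, b⁆ := by simp only [commutatorElement_def]; group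
      rw [this]
      exact mul_mem (mul_mem (mul_mem ha hb) (inv_mem ha)) (inv_mem hb)
    rw [hperf] at h3
    exact top_le_iff.mp h3
  obtain ⟨-, hord, hle⟩ := card_le_of_rels hout hsq hC hv hgen σ hmap
  have h1 := σ.ker.index_mul_card
  have h2 : σ.ker.index = 4585351680 := by
    rw [Subgroup.index_ker, MonoidHom.range_eq_top.mpr hs, Subgroup.card_top, card_om]
  rw [h2] at h1
  set V := (spider.map y).prod with hVdef
  have hk : Nat.card σ.ker ≤ orderOf V := by
    rw [← h1] at hle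
    exact Nat.le_of_mul_le_mul_left (by rw [mul_comm 4585351680 (orderOf V)]; exact hle) (by norm_num)
  have hVk : V ∈ σ.ker := by
    rw [MonoidHom.mem_ker, hVdef, map_list_prod, List.map_map, show σ ∘ y = mW from funext hmap]
    exact mW_word spider_sub
  have hd : orderOf V ∣ Nat.card σ.ker := by
    have e : orderOf (⟨V, hVk⟩ : σ.ker) = orderOf V := (Subgroup.orderOf_coe _).symm
    exact e ▸ orderOf_dvd_natCard _
  have hge := Nat.le_of_dvd Nat.card_pos hd
  omega

/-- The kernel of a stem extension of `Ω₇(3)` has order 1, 2, 3 or 6. -/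
theorem card_ker_mem {Γ : Type} [Group Γ] [Finite Γ] (σ : Γ →* Om) (hσ : Cfsg.IsStemExtension σ) :
    Nat.card σ.ker ∈ [1, 2, 3, 6] := by
  obtain ⟨hs, hcen, -⟩ := id hσ
  have hc : ∀ a, σ a = 1 → ∀ b : Γ, Commute a b := fun a ha b =>
    (Subgroup.mem_center_iff.mp (hcen (MonoidHom.mem_ker.mpr ha)) b).symm
  obtain ⟨x, z₀, hx⟩ := exists_good σ hs hc
  set c := ⁅x 1, x 3⁆ with hcdef
  set N := Subgroup.zpowers c
  haveI : N.Normal := ⟨fun n hn a => by
    obtain ⟨k, rfl⟩ := hn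
    rw [((c_comm hc hx a).zpow_left k).eq.symm, mul_inv_cancel_right]
    exact ⟨k, rfl⟩⟩
  have hσc : σ c = 1 :=
    map_commutator_eq_one σ (by rw [hx.map, hx.map]; exact mW_comm (by decide) (by decide) (by decide) rfl)
  have hle : N ≤ σ.ker := Subgroup.zpowers_le.mpr hσc
  set τ := QuotientGroup.lift N σ hle
  set π := QuotientGroup.mk' N
  have hπ : ∀ g, τ (π g) = σ g := fun g => rfl
  have hcq : ∀ a, τ a = 1 → ∀ b, Commute a b := by
    intro a ha b
    obtain ⟨g, rfl⟩ := QuotientGroup.mk'_surjective N a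
    obtain ⟨h, rfl⟩ := QuotientGroup.mk'_surjective N b
    exact (hc g ha h).map π
  have hxq : Good τ (fun i => π (x i)) (π z₀) :=
    ⟨fun i => (hπ _).trans (hx.map i), fun i hi => by show π (x i) = 1; rw [hx.out i hi, map_one],
      fun i hi => by show π (x i) * π (x i) = π z₀; rw [← map_mul, hx.sq i hi],
      fun i hi j hj h => by simp only [← map_mul, hx.braid i hi j hj h]⟩
  have hperf : commutator (Γ ⧸ N) = ⊤ := by
    rw [commutator_def, ← Subgroup.map_top_of_surjective π (QuotientGroup.mk'_surjective N),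
      ← Subgroup.map_commutator, ← commutator_def, perfect_of_stem σ hσ]
  have hcom : ∀ i ∈ sel, ∀ j ∈ sel, i ≠ j → adj i j = false → Commute (π (x i)) (π (x j)) :=
    fun i hi j hj hne h => by
      rw [← commutatorElement_eq_one_iff_commute, ← map_commutatorElement, comm_all hc hx hi hj hne h, ← hcdef]
      exact (QuotientGroup.eq_one_iff c).mpr (Subgroup.mem_zpowers c)
  have hq := card_ker_of_comm (σ := τ) (fun q => by obtain ⟨g, rfl⟩ := hs q; exact ⟨π g, rfl⟩) hcq hperf hxq hcom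
  haveI := finite_om
  have h1 := τ.ker.index_mul_card
  have h2 := σ.ker.index_mul_card
  have h3 : τ.ker.index = σ.ker.index := by
    rw [Subgroup.index_ker, Subgroup.index_ker]
    congr 2
    rw [MonoidHom.range_eq_top.mpr hs, MonoidHom.range_eq_top.mpr
      (fun q => by obtain ⟨g, rfl⟩ := hs q; exact ⟨π g, rfl⟩)]
  rw [h3] at h1
  have hN : Nat.card Γ = Nat.card (Γ ⧸ N) * Nat.card N := Subgroup.card_eq_card_quotient_mul_card_subgroup N
  have hi : 0 < σ.ker.index := Nat.pos_of_ne_zero Subgroup.index_ne_zero_of_finite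
  have hcd : orderOf c ∣ 2 := orderOf_dvd_of_pow_eq_one (by rw [pow_two]; exact c_sq hc hx)
  rw [Nat.card_zpowers] at hN
  have hk : Nat.card σ.ker = Nat.card τ.ker * orderOf c :=
    Nat.eq_of_mul_eq_mul_left hi (by rw [h2, hN, ← h1, mul_assoc])
  rcases (Nat.dvd_prime Nat.prime_two).mp hcd with h | h <;> rcases hq with h' | h' <;>
    rw [hk, h, h'] <;> decide

end CfsgLib.SchurO7
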