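import Cfsg.Agent.Lib.Schur.OmegaSeven.Bound
import Cfsg.Agent.Lib.Schur.OmegaSeven.PermData
import Cfsg.Prelude.Def_KGroupFacts

/-!
A stem extension of `Ω₇(3)` with kernel of order three, from an action on 9477 points.
-/

set_option autoImplicit false
set_option maxRecDepth 20000

namespace CfsgLib.SchurO7.Triple

open CfsgLib.CosetEnum
open CfsgLib.CosetEnum.O7 (Om mW)

local notation "IPV" => 18364757513700913680

/-- The permutations of the letters. -/
noncomputable def P (x : ℕ) : Equiv.Perm (Fin 9477) := permOf Perm.table IPV 9477 Perm.ip_ok Perm.row_ok x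

theorem P_inv {x : ℕ} (hx : x < 16) : P (linv IPV x) = (P x)⁻¹ := permOf_linv _ _ _ _ _ hx

theorem P_word {l : List ℕ} (hl : l ∈ lsV) : (l.map P).prod = 1 :=
  prod_eq_one_of_scan Perm.table IPV 9477 Perm.ip_ok Perm.row_ok l
    ((by decide +kernel : ∀ l ∈ lsV, ∀ x ∈ l, x < 16) l hl) fun k hk => fixesAll_spec _ _ _ (Perm.rel_ok k hk) l hl

theorem P_ten : P 10 = (P 9)⁻¹ := by
  have h := P_inv (x := 9) (by omega)
  rwa [linv_ipv 9 (by omega), if_pos rfl] at h

/-- The lifts of the letters. -/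
noncomputable def lift3 (x : ℕ) : Equiv.Perm (Fin 9477) × Om := if x ∈ sel then (P x, mW x) else 1

theorem lift3_sel {x : ℕ} (hx : x ∈ sel) : lift3 x = (P x, mW x) := if_pos hx

theorem map_lift3 {l : List ℕ} (hl : ∀ x ∈ l, x ∈ sel) :
    (l.map lift3).prod = ((l.map P).prod, (l.map mW).prod) := by
  induction l with
  | nil => rfl
  | cons x r ih =>
    simp only [List.map_cons, List.prod_cons, ih fun y hy => hl y (List.mem_cons_of_mem _ hy),
      lift3_sel (hl x (by simp)), Prod.mk_mul_mk]

theorem sel_sq : ∀ x ∈ sel, x < 16 ∧ linv IPV x = x := by decide +kernel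

theorem lift3_sq (x : ℕ) : lift3 x * lift3 x = 1 := by
  by_cases h : x ∈ sel
  · rw [lift3_sel h, Prod.mk_mul_mk, mW_sq]
    have h1 := P_inv (sel_sq x h).1
    rw [(sel_sq x h).2] at h1
    refine Prod.ext ?_ rfl
    show P x * P x = 1
    nth_rw 1 [h1]
    exact inv_mul_cancel _
  · rw [lift3, if_neg h, one_mul]

/-- The threefold cover. -/
noncomputable def Cov : Subgroup (Equiv.Perm (Fin 9477) × Om) := Level lift3 sel

/-- The lifts inside the cover. -/
noncomputable def y (x : ℕ) : Cov :=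
  if h : x ∈ sel then ⟨lift3 x, mem_level lift3 h⟩ else 1

theorem y_val (x : ℕ) : (y x : Equiv.Perm (Fin 9477) × Om) = lift3 x := by
  by_cases h : x ∈ sel
  · rw [y, dif_pos h]
  · rw [y, dif_neg h, lift3, if_neg h]; rfl

theorem val_prod (l : List ℕ) : ((l.map y).prod : Equiv.Perm (Fin 9477) × Om) = (l.map lift3).prod := by
  induction l with
  | nil => rfl
  | cons x r ih => simp only [List.map_cons, List.prod_cons, Subgroup.coe_mul, y_val, ih]

theorem spider_val : ((spider.map y).prod : Equiv.Perm (Fin 9477) × Om) = (P 9, 1) := by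
  rw [val_prod, map_lift3 (lsG_sub _ spider_sub).2, mW_word spider_sub]
  have h := P_word (l := spider ++ [10]) (by decide +kernel)
  rw [List.map_append, List.prod_append, List.map_singleton, List.prod_singleton, P_ten] at h
  rw [mul_inv_eq_one.mp h]

theorem P_nine_comm : ∀ i ∈ sel, P i * P 9 = P 9 * P i := by
  intro i hi
  have h := P_word ((by decide +kernel : ∀ i ∈ sel, [i, 9, i, 10] ∈ lsV) i hi)
  simp only [List.map_cons, List.map_nil, List.prod_cons, List.prod_nil, mul_one, P_ten] at h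
  have hi2 : (P i)⁻¹ = P i := by
    have h1 := P_inv (sel_sq i hi).1
    rw [(sel_sq i hi).2] at h1
    exact h1.symm
  have h2 : P i * P 9 * (P i * (P 9)⁻¹) = 1 := by rw [mul_assoc]; exact h
  rw [eq_inv_of_mul_eq_one_left h2, mul_inv_rev, inv_inv, hi2]

theorem exists_stem : ∃ (Γ : Type) (_ : Group Γ) (_ : Finite Γ) (σ : Γ →* Om),
    Cfsg.IsStemExtension σ ∧ Nat.card σ.ker = 3 := by
  have := finite_om
  set σ : Cov →* Om := (MonoidHom.snd _ _).comp Cov.subtype with hσd
  have hσ : ∀ x, σ (y x) = mW x := fun x => by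
    show (y x : Equiv.Perm (Fin 9477) × Om).2 = _
    rw [y_val]
    by_cases h : x ∈ sel
    · rw [lift3_sel h]
    · rw [lift3, if_neg h, mW_out h]; rfl
  have hout : ∀ x, x ∉ sel → y x = 1 := fun x hx => dif_neg hx
  have hsq : ∀ x, y x * y x = 1 := fun x => Subtype.ext (by rw [Subgroup.coe_mul, y_val]; exact lift3_sq x)
  have hC : ∀ l ∈ lsC, (l.map y).prod = 1 := fun l hl => Subtype.ext (by
    rw [val_prod, map_lift3 fun x hx => (lsC_lt l hl x hx).1, P_word ((by decide +kernel : ∀ l ∈ lsC, l ∈ lsV) l hl),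
      mW_word (lsC_sub l hl)]
    rfl)
  set V := (spider.map y).prod with hVd
  have hv : ∀ b, Commute V b := fun b => Subtype.ext (by
    show (V : Equiv.Perm (Fin 9477) × Om) * b = b * V
    have hle : Cov ≤ Subgroup.centralizer ({(V : Equiv.Perm (Fin 9477) × Om)} : Set _) := by
      refine (Subgroup.closure_le _).mpr ?_
      rintro _ ⟨x, hx, rfl⟩
      rw [SetLike.mem_coe, Subgroup.mem_centralizer_singleton_iff, hVd, spider_val, lift3_sel hx, Prod.mk_mul_mk,
        Prod.mk_mul_mk, P_nine_comm x hx, mul_one, one_mul]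
    exact (Subgroup.mem_centralizer_singleton_iff.mp (hle b.2)).symm)
  have hgen : Level y sel = ⊤ := by
    refine eq_top_iff.mpr fun g _ => ?_
    have h : (g : Equiv.Perm (Fin 9477) × Om) ∈ (Level y sel).map Cov.subtype := by
      refine (show Cov ≤ _ from ?_) g.2
      refine (Subgroup.closure_le _).mpr ?_
      rintro _ ⟨x, hx, rfl⟩
      exact ⟨y x, mem_level y hx, y_val x⟩
    obtain ⟨g', hg', e⟩ := h
    rwa [← Subtype.ext (show (g' : Equiv.Perm (Fin 9477) × Om) = g from e)]
  obtain ⟨hfin, hord, hle⟩ := card_le_of_rels hout hsq hC hv hgen σ hσ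
  have hne : V ≠ 1 := fun h => by
    have h1 : P 9 = 1 := by
      have h' := congrArg (fun z : Cov => (z : Equiv.Perm (Fin 9477) × Om)) h
      simp only [hVd, spider_val] at h'
      exact congrArg Prod.fst h'
    have h2 : ((P 9 ⟨0, by omega⟩ : Fin 9477) : ℕ) = 0 := by rw [h1]; rfl
    rw [P, permOf_apply _ _ _ _ _ (by omega)] at h2
    exact absurd h2 (by decide +kernel)
  have h3 : orderOf V = 3 := hord.resolve_left (fun h => hne (orderOf_eq_one_iff.mp h))
  have hs : Function.Surjective σ := by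
    rw [← MonoidHom.range_eq_top, eq_top_iff, ← level_top, Level, Subgroup.closure_le]
    rintro _ ⟨x, hx, rfl⟩
    exact ⟨y x, hσ x⟩
  have hVk : V ∈ σ.ker := by
    rw [MonoidHom.mem_ker, hVd, map_list_prod, List.map_map, show σ ∘ y = mW from funext hσ]
    exact mW_word spider_sub
  have hz : Subgroup.zpowers V ≤ σ.ker := Subgroup.zpowers_le.mpr hVk
  have hk : Nat.card σ.ker ≤ 3 := by
    have h1 := σ.ker.index_mul_card
    rw [Subgroup.index_ker, MonoidHom.range_eq_top.mpr hs, Subgroup.card_top, card_om] at h1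
    rw [h3] at hle
    change Nat.card Cov ≤ _ at hle
    nlinarith
  have heq : Subgroup.zpowers V = σ.ker :=
    Subgroup.eq_of_le_of_card_ge hz (by rw [Nat.card_zpowers, h3]; exact hk)
  have hperf : commutator Cov = ⊤ := by
    refine perfect_of_rels (fun i _ => hsq i) (fun i hi j hj h => ?_) (hC w9 w9_sub) hgen
    exact braid_of_word hsq (hC _ (braid_mem i hi j hj h))
  refine ⟨Cov, inferInstance, hfin, σ, ⟨hs, fun g hg => ?_, by rw [hperf]; exact le_top⟩, ?_⟩
  · rw [← heq] at hg
    obtain ⟨k, rfl⟩ := hg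
    exact Subgroup.mem_center_iff.mpr fun b => ((hv b).zpow_left k).eq.symm
  · rw [← heq, Nat.card_zpowers, h3]

end CfsgLib.SchurO7.Triple
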