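import Cfsg.Agent.Lib.Schur.OmegaSeven.Lifts
import Cfsg.Agent.Lib.Schur.OmegaSeven.Double
import Cfsg.Agent.Lib.Schur.OmegaSeven.Triple
import Cfsg.Agent.Lib.Schur.Bound
import Mathlib.Algebra.Group.Shrink

/-!
The Schur multiplier of `PΩ₇(3)` is cyclic of order six.
-/

set_option autoImplicit false

namespace CfsgLib.SchurO7

open CfsgLib.CosetEnum.O7 (F3 Qf Om)
open Subgroup
open scoped Matrix

universe u v

/-- Isomorphisms carry stem extensions to stem extensions. -/
theorem stem_map {Γ : Type u} {Γ' : Type v} {G G' : Type*} [Group Γ] [Group Γ'] [Group G] [Group G']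
    (f : Γ' ≃* Γ) (g : G ≃* G') {σ : Γ →* G} (h : Cfsg.IsStemExtension σ) :
    Cfsg.IsStemExtension (g.toMonoidHom.comp (σ.comp f.toMonoidHom)) ∧
      Nat.card (g.toMonoidHom.comp (σ.comp f.toMonoidHom)).ker = Nat.card σ.ker := by
  obtain ⟨hs, hc, hd⟩ := h
  have hk : (g.toMonoidHom.comp (σ.comp f.toMonoidHom)).ker = σ.ker.map f.symm.toMonoidHom := by
    ext x
    rw [mem_map_equiv, MonoidHom.mem_ker, MonoidHom.mem_ker]
    exact map_eq_one_iff g g.injective
  refine ⟨⟨g.surjective.comp (hs.comp f.surjective), hk ▸ ?_, hk ▸ ?_⟩, ?_⟩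
  · exact (map_mono hc).trans (CfsgLib.Classical.Quad.map_center_mulEquiv f.symm).le
  · refine (map_mono hd).trans ?_
    rw [_root_.commutator_def, map_commutator]
    exact commutator_mono le_top le_top
  · rw [hk]; exact card_map_of_injective f.symm.injective

/-- The general linear groups of isomorphic fields. -/
noncomputable def glEquiv {K F : Type*} [Field K] [Field F] {ι : Type} [Fintype ι] [DecidableEq ι] (e : K ≃+* F) :
    GL ι K ≃* GL ι F :=
  Units.mapEquiv e.mapMatrix.toMulEquiv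

/-- Isometry groups of forms corresponding under a field isomorphism. -/
theorem map_isometryGroup {K F : Type*} [Field K] [Field F] {ι : Type} [Fintype ι] [DecidableEq ι] (e : K ≃+* F)
    {Q : (ι → K) → K} {Q' : (ι → F) → F} (h : ∀ v, Q' (fun i => e (v i)) = e (Q v)) :
    (Cfsg.isometryGroup K Q).map (glEquiv (ι := ι) e).toMonoidHom = Cfsg.isometryGroup F Q' := by
  have key : ∀ (g : GL ι K) (v : ι → K),
      ((glEquiv e g : GL ι F) : Matrix ι ι F) *ᵥ (fun i => e (v i)) = fun i => e (((g : Matrix ι ι K) *ᵥ v) i) :=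
    fun g v => funext fun i => ((RingHom.map_mulVec e.toRingHom (g : Matrix ι ι K) v i).symm :)
  ext x
  obtain ⟨g, rfl⟩ := (glEquiv (ι := ι) e).surjective x
  rw [mem_map_equiv, MulEquiv.symm_apply_apply]
  constructor
  · intro hg u w
    show Q' _ = Q' u
    obtain ⟨u, rfl⟩ : ∃ u₀, (fun i => e (u₀ i)) = u := ⟨fun i => e.symm (u i), by simp⟩
    show Q' ((glEquiv e g : Matrix ι ι F) *ᵥ _) = _
    rw [key, h, h]
    exact congrArg e (hg u u)
  · intro hg u w
    show Q _ = Q u
    refine e.injective ?_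
    rw [← h, ← h]
    have := hg (fun i => e (u i)) (fun i => e (u i))
    show Q' (fun i => e (((g : Matrix ι ι K) *ᵥ u) i)) = _
    rw [← key]
    exact this

/-- `PΩ₇` over a field with three elements is the model group. -/
theorem nonempty_equiv {F : Type u} [Field F] [Fintype F] (hF : Fintype.card F = 3) :
    Nonempty (Cfsg.POmega F (Cfsg.quadFormOdd 3 F) ≃* Om) := by
  have : Fact (Nat.Prime 3) := ⟨Nat.prime_three⟩
  let e : F3 ≃+* F := ZMod.ringEquivOfPrime F Nat.prime_three hF
  have h : ∀ v, Cfsg.quadFormOdd 3 F (fun i => e (v i)) = e (Qf v) := fun v => by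
    simp [Qf, Cfsg.quadFormOdd]
  let eI : Cfsg.isometryGroup F3 Qf ≃* Cfsg.isometryGroup F (Cfsg.quadFormOdd 3 F) :=
    ((glEquiv e).subgroupMap _).trans (MulEquiv.subgroupCongr (map_isometryGroup e h))
  let eP := CfsgLib.Classical.Quad.centralQuotientEquiv (CfsgLib.Classical.Quad.commutatorEquiv eI)
  exact ⟨eP.symm.trans ((QuotientGroup.quotientMulEquivOfEq
    (Subgroup.card_eq_one.mp CfsgLib.CosetEnum.O7.card_center)).trans QuotientGroup.quotientBot)⟩

/-- A group isomorphic to the model has Schur multiplier cyclic of order six. -/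
theorem hasCyclic_six {G : Type u} [Group G] (φ : G ≃* Om) : Cfsg.HasCyclicSchurMultiplier G 6 := by
  have : Fact (Nat.Prime 2) := ⟨Nat.prime_two⟩
  have : Fact (Nat.Prime 3) := ⟨Nat.prime_three⟩
  refine SchurBound.hasCyclic_of_squarefree (by decide +kernel) ?_ fun Γ _ _ σ hσ r hr => ?_
  · obtain ⟨Γ, i1, i2, σ, hσ, hk⟩ :=
      SchurBound.exists_stem_prime_mul (by decide : (2 : ℕ) ≠ 3) Double.exists_stem Triple.exists_stem
    obtain ⟨hσ', hk'⟩ := stem_map (MulEquiv.ulift : ULift.{u} Γ ≃* Γ) φ.symm hσ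
    exact ⟨ULift.{u} Γ, inferInstance, inferInstance, _, hσ', hk'.trans (by rw [hk])⟩
  · obtain ⟨hσ', hk'⟩ := stem_map (Shrink.mulEquiv.{0} : Shrink.{0} Γ ≃* Γ) φ hσ
    have hm := card_ker_mem _ hσ'
    rw [hk'] at hm
    have hd : Nat.card σ.ker ∣ 6 := by
      simp only [List.mem_cons, List.not_mem_nil, or_false] at hm
      rcases hm with h | h | h | h <;> rw [h] <;> decide
    refine ⟨fun h => ?_, fun h => h.trans hd⟩
    have h6 : Squarefree 6 := by decide +kernel
    exact hr.not_isUnit (h6 r (by rw [← pow_two]; exact h.trans hd))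

/-- The Schur multiplier of `PΩ₇` over the field with three elements. -/
theorem hasCyclic_pomega {F : Type u} [Field F] [Fintype F] (hF : Fintype.card F = 3) :
    Cfsg.HasCyclicSchurMultiplier (Cfsg.POmega F (Cfsg.quadFormOdd 3 F)) 6 :=
  hasCyclic_six (nonempty_equiv hF).some

end CfsgLib.SchurO7
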